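import Groth.Prelude.Def_W4sga3xxiRoot
import Mathlib.LinearAlgebra.RootSystem.Base
import Mathlib.LinearAlgebra.RootSystem.Finite.Nondegenerate
import Mathlib.LinearAlgebra.Matrix.ToLinearEquiv

/-!
Combinatorics of finite crystallographic root pairings, not assumed reduced: closed sets of roots,
systems of positive roots, systems of simple roots.
-/

open Set Module

set_option linter.unusedSectionVars false

namespace Groth.RootData

variable {ι R M N : Type*} [CommRing R] [AddCommGroup M] [Module R M] [AddCommGroup N] [Module R N]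
  {P : RootPairing ι R M N}

open RootD

/-- The index of the opposite root. -/
abbrev neg (P : RootPairing ι R M N) (i : ι) : ι := P.reflectionPerm i i

lemma root_neg (i : ι) : P.root (neg P i) = -P.root i := by simp

lemma coroot_neg (i : ι) : P.coroot (neg P i) = -P.coroot i := by simp

lemma neg_neg (i : ι) : neg P (neg P i) = i := by
  apply P.root.injective
  rw [root_neg, root_neg, _root_.neg_neg]

lemma root_mem_natSpan {S : Set ι} {i : ι} (h : i ∈ S) : P.root i ∈ natSpan P S :=
  AddSubmonoid.subset_closure (mem_image_of_mem _ h)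

lemma natSpan_mono {S T : Set ι} (h : S ⊆ T) : natSpan P S ≤ natSpan P T :=
  AddSubmonoid.closure_mono (image_mono h)

lemma exists_multiset_of_mem_natSpan {S : Set ι} {x : M} (h : x ∈ natSpan P S) :
    ∃ s : Multiset ι, (∀ i ∈ s, i ∈ S) ∧ (s.map P.root).sum = x := by
  induction h using AddSubmonoid.closure_induction with
  | mem x hx =>
    obtain ⟨i, hi, rfl⟩ := hx
    exact ⟨{i}, by simpa using hi, by simp⟩
  | zero => exact ⟨0, by simp, by simp⟩
  | add x y _ _ hx hy =>
    obtain ⟨s, hs, rfl⟩ := hx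
    obtain ⟨t, ht, rfl⟩ := hy
    exact ⟨s + t, fun i hi ↦ (Multiset.mem_add.mp hi).elim (hs i) (ht i), by simp⟩

lemma multiset_sum_mem_natSpan {S : Set ι} {s : Multiset ι} (h : ∀ i ∈ s, i ∈ S) :
    (s.map P.root).sum ∈ natSpan P S :=
  AddSubmonoid.multiset_sum_mem _ _ fun x hx ↦ by
    obtain ⟨i, hi, rfl⟩ := Multiset.mem_map.mp hx
    exact root_mem_natSpan (h i hi)

lemma mem_natSpan_iff_exists_finsupp {S : Set ι} {x : M} :
    x ∈ natSpan P S ↔ ∃ c : ι →₀ ℕ, (↑c.support ⊆ S) ∧ Finsupp.linearCombination ℕ P.root c = x := by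
  rw [natSpan, ← Submodule.span_nat_eq_addSubmonoidClosure, Submodule.mem_toAddSubmonoid,
    Finsupp.mem_span_image_iff_linearCombination]
  simp [Finsupp.mem_supported]

lemma natSpan_le_span_int (S : Set ι) {x : M} (h : x ∈ natSpan P S) :
    x ∈ Submodule.span ℤ (P.root '' S) := by
  induction h using AddSubmonoid.closure_induction with
  | mem x hx => exact Submodule.subset_span hx
  | zero => exact zero_mem _
  | add x y _ _ hx hy => exact add_mem hx hy

lemma isIndiv_iff {i : ι} : IsIndiv P i ↔ ∀ j, P.root i ≠ P.root j + P.root j := by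
  simp only [IsIndiv, two_smul, ne_comm]

lemma isIndiv_neg_iff {i : ι} : IsIndiv P (neg P i) ↔ IsIndiv P i := by
  suffices ∀ i, IsIndiv P i → IsIndiv P (neg P i) from
    ⟨fun h ↦ neg_neg (P := P) i ▸ this _ h, this i⟩
  intro i h
  rw [isIndiv_iff] at h ⊢
  intro j hj
  refine h (neg P j) ?_
  rw [root_neg] at hj ⊢
  rw [← _root_.neg_neg (P.root i), hj, neg_add]

section Cryst

variable (P) in
/-- The Cartan integers. -/
noncomputable abbrev pI [P.IsCrystallographic] (i j : ι) : ℤ := P.pairingIn ℤ i j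

variable [CharZero R] [IsDomain R]

lemma isAddTorsionFree_weight (P : RootPairing ι R M N) : IsAddTorsionFree M := by
  have : Module.IsReflexive R M := .of_isPerfPair P.toLinearMap
  exact .of_isTorsionFree R M

lemma isAddTorsionFree_coweight (P : RootPairing ι R M N) : IsAddTorsionFree N :=
  isAddTorsionFree_weight P.flip

lemma zsmul_right_cancel (P : RootPairing ι R M N) {a : ℤ} (ha : a ≠ 0) {x y : M}
    (h : a • x = a • y) : x = y :=
  haveI := isAddTorsionFree_weight P
  zsmul_right_injective ha h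

lemma root_ne_neg_root (i : ι) : P.root i ≠ -P.root i := by
  intro h
  refine P.ne_zero i (zsmul_right_cancel P (two_ne_zero : (2 : ℤ) ≠ 0) ?_)
  rw [smul_zero, two_zsmul]
  exact eq_neg_iff_add_eq_zero.mp h

lemma neg_ne_self (i : ι) : neg P i ≠ i := fun h ↦
  root_ne_neg_root (P := P) i <| by simpa [h] using root_neg (P := P) i

variable [P.IsCrystallographic]

lemma coroot'_root (k i : ι) : P.coroot' k (P.root i) = (pI P i k : R) := by
  simp [← P.algebraMap_pairingIn ℤ]

lemma pI_same (i : ι) : pI P i i = 2 := P.pairingIn_same ℤ i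

lemma pI_neg_left (i j : ι) : pI P (neg P i) j = -pI P i j :=
  P.pairingIn_reflectionPerm_self_left ℤ i j

lemma pI_neg_right (i j : ι) : pI P i (neg P j) = -pI P i j :=
  P.pairingIn_reflectionPerm_self_right ℤ i j

lemma root_reflectionPerm_eq (i j : ι) :
    P.root (P.reflectionPerm i j) = P.root j - pI P j i • P.root i := by
  rw [P.root_reflectionPerm, P.reflection_apply_root' ℤ]

lemma coroot'_multiset_sum (k : ι) (s : Multiset ι) :
    P.coroot' k (s.map P.root).sum = (((s.map (pI P · k)).sum : ℤ) : R) := by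
  induction s using Multiset.induction with
  | empty => simp
  | cons a s ih =>
    rw [Multiset.map_cons, Multiset.sum_cons, map_add, ih, coroot'_root, Multiset.map_cons,
      Multiset.sum_cons, Int.cast_add]

lemma coroot'_zsmul_sum {α : Type*} (k : ι) (t : Finset α) (c : α → ℤ) (f : α → ι) :
    P.coroot' k (∑ a ∈ t, c a • P.root (f a)) = ((∑ a ∈ t, c a * pI P (f a) k : ℤ) : R) := by
  rw [map_sum, Int.cast_sum]
  refine Finset.sum_congr rfl fun a _ ↦ ?_
  rw [map_zsmul, coroot'_root, zsmul_eq_mul, Int.cast_mul]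

lemma sum_pI_eq_of_sum_eq {α β : Type*} {t : Finset α} {u : Finset β} {c : α → ℤ} {d : β → ℤ}
    {f : α → ι} {g : β → ι} (k : ι)
    (h : ∑ a ∈ t, c a • P.root (f a) = ∑ b ∈ u, d b • P.root (g b)) :
    ∑ a ∈ t, c a * pI P (f a) k = ∑ b ∈ u, d b * pI P (g b) k := by
  have := congrArg (P.coroot' k) h
  rw [coroot'_zsmul_sum, coroot'_zsmul_sum] at this
  exact_mod_cast this

lemma pI_add {i j k : ι} (l : ι) (h : P.root k = P.root i + P.root j) :
    pI P k l = pI P i l + pI P j l := by
  have := congrArg (P.coroot' l) h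
  rw [map_add, coroot'_root, coroot'_root, coroot'_root] at this
  exact_mod_cast this

variable [Finite ι]

lemma root_sub_mem {i j : ι} (h : 0 < pI P i j) (h' : i ≠ j) :
    ∃ k, P.root k = P.root i - P.root j :=
  P.root_sub_root_mem_of_pairingIn_pos h h'

lemma root_add_mem {i j : ι} (h : pI P i j < 0) (h' : i ≠ neg P j) :
    ∃ k, P.root k = P.root i + P.root j :=
  P.root_add_root_mem_of_pairingIn_neg h fun e ↦ h' (P.root.injective (by rw [e, root_neg]))

lemma pI_pos_symm {i j : ι} (h : 0 < pI P i j) : 0 < pI P j i :=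
  (P.zero_lt_pairingIn_iff' ℤ).mp h

/-- A root in the monoid generated by a closed set lies in it, more precisely the summands can be
reached one at a time. -/
lemma exists_mem_pairing_pos {s : Multiset ι} {k : ι} {n : ℤ} (hn : 0 < n)
    (h : (s.map P.root).sum = n • P.root k) : ∃ a ∈ s, 0 < pI P a k := by
  have := congrArg (P.coroot' k) h
  rw [coroot'_multiset_sum, map_zsmul, coroot'_root, pI_same, zsmul_eq_mul, ← Int.cast_mul,
    Int.cast_inj] at this
  by_contra! hc
  have : (s.map (pI P · k)).sum ≤ 0 := by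
    simpa using Multiset.sum_le_card_nsmul (s.map (pI P · k)) 0 (by simpa using hc)
  omega

lemma mem_of_mem_natSpan {S : Set ι} (hS : IsClosedSub P S) {k : ι}
    (h : P.root k ∈ natSpan P S) : k ∈ S := by
  obtain ⟨s, hs, hsk⟩ := exists_multiset_of_mem_natSpan h
  clear h
  induction hn : Multiset.card s using Nat.strong_induction_on generalizing s k with
  | _ n ih =>
    obtain ⟨a, ha, hpos⟩ := exists_mem_pairing_pos (P := P) (k := k) one_pos (by rw [hsk, one_zsmul])
    rcases eq_or_ne k a with rfl | hne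
    · exact hs k ha
    obtain ⟨m, hm⟩ := root_sub_mem (pI_pos_symm hpos) hne
    obtain ⟨t, rfl⟩ := Multiset.exists_cons_of_mem ha
    rw [Multiset.map_cons, Multiset.sum_cons] at hsk
    have hmS : m ∈ S := ih (Multiset.card t) (by simp [← hn]) t
      (fun i hi ↦ hs i (Multiset.mem_cons_of_mem hi))
      (by rw [hm, ← hsk]; abel) rfl
    exact hS (hs a ha) hmS (by rw [hm]; abel)

lemma sum_root_ne_zero {S : Set ι} (hS : IsClosedSub P S) (hd : ∀ i ∈ S, neg P i ∉ S)
    {s : Multiset ι} (hs : ∀ i ∈ s, i ∈ S) (hne : s ≠ 0) : (s.map P.root).sum ≠ 0 := by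
  induction hn : Multiset.card s using Nat.strong_induction_on generalizing s with
  | _ n ih =>
    intro h0
    obtain ⟨a, ha⟩ := Multiset.exists_mem_of_ne_zero hne
    obtain ⟨t, rfl⟩ := Multiset.exists_cons_of_mem ha
    rw [Multiset.map_cons, Multiset.sum_cons] at h0
    obtain ⟨b, hb, hab⟩ := exists_mem_pairing_pos (P := P) (s := t) (k := neg P a) one_pos
      (by rw [one_zsmul, root_neg]; exact (neg_eq_of_add_eq_zero_right h0).symm)
    rw [pI_neg_right] at hab
    have haS := hs a ha
    have hbS := hs b (Multiset.mem_cons_of_mem hb)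
    obtain ⟨c, hc⟩ := root_add_mem (P := P) (i := b) (j := a) (by omega)
      (fun e ↦ hd a haS (e ▸ hbS))
    obtain ⟨u, rfl⟩ := Multiset.exists_cons_of_mem hb
    rw [Multiset.map_cons, Multiset.sum_cons] at h0
    refine ih (Multiset.card (c ::ₘ u)) (by simp [← hn]) ?_ (Multiset.cons_ne_zero) rfl ?_
    · intro i hi
      rcases Multiset.mem_cons.mp hi with rfl | hi
      · exact hS hbS haS hc
      · exact hs i (Multiset.mem_cons_of_mem (Multiset.mem_cons_of_mem hi))
    · rw [Multiset.map_cons, Multiset.sum_cons, hc, ← h0]; abel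

/-- A set of roots `S` with `S ∩ -S = ∅`, `S ∪ -S = univ`, closed. -/
lemma isPosSys_iff_closed {S : Set ι} :
    IsPosSys P S ↔ (∀ i ∈ S, neg P i ∉ S) ∧ (∀ i, i ∈ S ∨ neg P i ∈ S) ∧ IsClosedSub P S := by
  refine ⟨fun h ↦ ⟨fun i hi ↦ h.disjoint hi, h.cover, fun i j k hi hj hk ↦ h.sat 1 one_pos ?_⟩, ?_⟩
  · rw [one_nsmul, hk]; exact add_mem (root_mem_natSpan hi) (root_mem_natSpan hj)
  rintro ⟨hd, hc, hS⟩
  refine ⟨fun i hi ↦ hd i hi, hc, fun k n hn hk ↦ (hc k).resolve_right fun hneg ↦ ?_⟩
  obtain ⟨s, hs, hsk⟩ := exists_multiset_of_mem_natSpan hk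
  refine sum_root_ne_zero hS hd (s := s + Multiset.replicate n (neg P k)) ?_ ?_ ?_
  · intro i hi
    rcases Multiset.mem_add.mp hi with hi | hi
    · exact hs i hi
    · exact (Multiset.eq_of_mem_replicate hi) ▸ hneg
  · intro h
    have := congrArg Multiset.card h
    simp at this
    omega
  · simp [hsk]

lemma IsPosSys.closed {S : Set ι} (h : IsPosSys P S) : IsClosedSub P S :=
  (isPosSys_iff_closed.mp h).2.2

omit [CharZero R] [IsDomain R] [P.IsCrystallographic] [Finite ι] in
lemma IsPosSys.neg_mem_iff {S : Set ι} (h : IsPosSys P S) {i : ι} : neg P i ∈ S ↔ i ∉ S :=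
  ⟨fun h' hi ↦ h.disjoint hi h', (h.cover i).resolve_left⟩

omit [CharZero R] [IsDomain R] [P.IsCrystallographic] [Finite ι] in
lemma IsPosSys.eq_of_subset {S T : Set ι} (hS : IsPosSys P S) (hT : IsPosSys P T) (h : S ⊆ T) :
    S = T :=
  subset_antisymm h fun i hi ↦ (hS.cover i).resolve_right fun h' ↦ hT.disjoint hi (h h')

/-- `i` lies strictly below `k` for the order defined by the positive cone of `S`. -/
def Below (P : RootPairing ι R M N) (S : Set ι) (i k : ι) : Prop :=
  ∃ s : Multiset ι, s ≠ 0 ∧ (∀ a ∈ s, a ∈ S) ∧ P.root i + (s.map P.root).sum = P.root k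

lemma wellFounded_below {S : Set ι} (hS : IsPosSys P S) : WellFounded (Below P S) := by
  obtain ⟨hd, -, hcl⟩ := isPosSys_iff_closed.mp hS
  have : Std.Irrefl (Below P S) := ⟨fun i ⟨s, hs, hsS, he⟩ ↦
    sum_root_ne_zero hcl hd hsS hs (by simpa using he)⟩
  have : IsTrans ι (Below P S) := ⟨fun a b c ⟨s, hs, hsS, he⟩ ⟨t, _, htS, he'⟩ ↦
    ⟨s + t, fun h ↦ hs (by
        have := congrArg Multiset.card h
        simp only [Multiset.card_add, Multiset.card_zero, Nat.add_eq_zero_iff] at this
        exact Multiset.card_eq_zero.mp this.1),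
      fun a ha ↦ (Multiset.mem_add.mp ha).elim (hsS a) (htS a),
      by rw [Multiset.map_add, Multiset.sum_add, ← he', ← he]; abel⟩⟩
  exact Finite.wellFounded_of_trans_of_irrefl _

lemma multiset_map_toMultiset_sum (c : ι →₀ ℕ) :
    ((Finsupp.toMultiset c).map P.root).sum = Finsupp.linearCombination ℕ P.root c := by
  induction c using Finsupp.induction_linear with
  | zero => simp
  | add f g hf hg => simp [hf, hg]
  | single i n => simp [Multiset.map_nsmul, Multiset.sum_nsmul]

lemma eq_zero_of_linearCombination_nat_eq_zero {S : Set ι} (hS : IsClosedSub P S)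
    (hd : ∀ i ∈ S, neg P i ∉ S) {c : ι →₀ ℕ} (hc : ↑c.support ⊆ S)
    (h : Finsupp.linearCombination ℕ P.root c = 0) : c = 0 := by
  classical
  by_contra hne
  refine sum_root_ne_zero hS hd (s := Finsupp.toMultiset c)
    (fun i hi ↦ hc ((Finsupp.mem_toMultiset c i).mp hi))
    (fun h0 ↦ hne ?_) (by rw [multiset_map_toMultiset_sum, h])
  rw [← Finsupp.toMultiset_toFinsupp c, h0, map_zero]

end Cryst

end Groth.RootData
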