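import Groth.Agent.RootData.Height

/-!
The fundamental domain of the Weyl group acting on `Hom(M, Γ)`.
-/

open Set Module
open scoped Pointwise

namespace Groth.RootData

open RootD

set_option linter.unusedSectionVars false

variable {ι M N : Type*} [AddCommGroup M] [AddCommGroup N] {P : RootPairing ι ℤ M N} [Finite ι]
  {Γ : Type*} [AddCommGroup Γ] [LinearOrder Γ] [IsOrderedAddMonoid Γ]

lemma weightHom_eq_smul (g : P.Aut) (m : M) : RootPairing.Equiv.weightHom P g m = g • m := rfl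

lemma exists_dominant_conj {S : Set ι} (hS : IsPosSys P S) (f : M →+ Γ) :
    ∃ g ∈ P.weylGroup, ∀ i ∈ S, 0 ≤ f (g • P.root i) := by
  obtain ⟨g, hg, h⟩ := exists_weyl_image_subset (P' := {i | 0 ≤ f (P.root i)}) hS
    (fun i ↦ by
      rcases le_total 0 (f (P.root i)) with h | h
      · exact .inl h
      · exact .inr (by simpa [mem_setOf_eq, root_neg] using h))
    (fun i j k hi hj hk ↦ by
      simp only [mem_setOf_eq] at hi hj ⊢
      rw [hk, map_add]; exact add_nonneg hi hj)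
  refine ⟨g, hg, fun i hi ↦ ?_⟩
  rw [← root_smul]
  exact h (mem_image_of_mem _ hi)

lemma dominant_invariant {S : Set ι} (hS : IsPosSys P S) (f : M →+ Γ)
    (hf : ∀ i ∈ S, 0 ≤ f (P.root i)) {g : P.Aut} (hg : g ∈ P.weylGroup)
    (hfg : ∀ i ∈ S, 0 ≤ f (g • P.root i)) (m : M) : f (g • m) = f m := by
  have hΔ := isSimpleSys_simpleOf hS
  revert hfg m
  refine weyl_induction hΔ (p := fun g ↦ (∀ i ∈ S, 0 ≤ f (g • P.root i)) → ∀ m, f (g • m) = f m)
    (fun _ m ↦ by rw [one_smul]) (fun g _ a ha hga ih h m ↦ ?_) hg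
  rw [posOf_simpleOf hS] at hga
  have h0 : f (g • P.root a) = 0 := by
    refine le_antisymm ?_ (root_smul g a ▸ hf _ hga)
    have := h a ha.1
    rw [mul_smul, ← root_smul (refl P a), refl_smul_self, root_neg, smul_neg, map_neg] at this
    exact neg_nonneg.mp this
  have key : ∀ m, f ((g * refl P a) • m) = f (g • m) := fun m ↦ by
    rw [mul_smul, refl_smul_weight, smul_sub, map_sub, smul_comm g, map_zsmul, h0, smul_zero,
      sub_zero]
  rw [key]
  exact ih (fun i hi ↦ key (P.root i) ▸ h i hi) m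

lemma dominant_sub_eq [Fintype ι] {S : Set ι} (hS : IsPosSys P S) (f : M →+ Γ)
    (hf : ∀ i ∈ S, 0 ≤ f (P.root i)) {g : P.Aut} (hg : g ∈ P.weylGroup) :
    ∃ c : ι → Γ, (∀ i, 0 ≤ c i) ∧ (∀ i, i ∉ S → c i = 0) ∧
      ∀ m : M, f m - f (g • m) = ∑ i, (P.coroot' i m) • c i := by
  classical
  have hΔ := isSimpleSys_simpleOf hS
  refine weyl_induction hΔ (p := fun g ↦ ∃ c : ι → Γ, (∀ i, 0 ≤ c i) ∧ (∀ i, i ∉ S → c i = 0) ∧
      ∀ m : M, f m - f (g • m) = ∑ i, (P.coroot' i m) • c i)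
    ⟨0, fun _ ↦ le_rfl, fun _ _ ↦ rfl, fun m ↦ by simp⟩ (fun g _ a ha hga ih ↦ ?_) hg
  rw [posOf_simpleOf hS] at hga
  obtain ⟨c, hc0, hc1, hc⟩ := ih
  refine ⟨c + Pi.single a (f (g • P.root a)), fun i ↦ add_nonneg (hc0 i) ?_, fun i hi ↦ ?_, fun m ↦ ?_⟩
  · rcases eq_or_ne i a with rfl | h
    · simpa using root_smul g i ▸ hf _ hga
    · simp [h]
  · have : i ≠ a := fun e ↦ hi (e ▸ ha.1)
    simp [hc1 i hi, this]
  · simp only [Pi.add_apply, smul_add, Finset.sum_add_distrib]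
    rw [← hc m, Finset.sum_eq_single_of_mem a (Finset.mem_univ a) (fun i _ h ↦ by simp [h]),
      Pi.single_eq_same, mul_smul, refl_smul_weight, smul_sub, map_sub, smul_comm g, map_zsmul]
    abel

lemma dominant_weyl_le {S : Set ι} (hS : IsPosSys P S) (f : M →+ Γ)
    (hf : ∀ i ∈ S, 0 ≤ f (P.root i)) {g : P.Aut} (hg : g ∈ P.weylGroup) {m : M}
    (hm : ∀ i ∈ S, 0 ≤ P.coroot' i m) : f (g • m) ≤ f m := by
  have : Fintype ι := Fintype.ofFinite ι
  obtain ⟨c, hc0, hc1, hc⟩ := dominant_sub_eq hS f hf hg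
  rw [← sub_nonneg, hc m]
  refine Finset.sum_nonneg fun i _ ↦ ?_
  by_cases hi : i ∈ S
  · exact zsmul_nonneg (hc0 i) (hm i hi)
  · simp [hc1 i hi]

/-- The sum of the positive roots is a regular dominant weight. -/
lemma exists_regular_dominant {S : Set ι} (hS : IsPosSys P S) :
    ∃ x : M, ∀ i ∈ S, 0 < P.coroot' i x := by
  classical
  have : Fintype ι := Fintype.ofFinite ι
  refine ⟨∑ l ∈ S.toFinset, P.root l, fun i hi ↦ ?_⟩
  have hS' : IsPosSys P (S.toFinset : Set ι) := by rwa [Set.coe_toFinset]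
  rw [map_sum]
  simp only [coroot'_root, Int.cast_id]
  exact sum_pI_pos_of_mem' hS' (Set.mem_toFinset.mpr hi)

lemma dominant_of_test {S : Set ι} (hS : IsPosSys P S) (f : M →+ Γ)
    (h : ∀ g ∈ P.weylGroup, ∀ m : M, (∀ i ∈ S, 0 ≤ P.coroot' i m) → f (g • m) ≤ f m)
    {i : ι} (hi : i ∈ S) : 0 ≤ f (P.root i) := by
  obtain ⟨x, hx⟩ := exists_regular_dominant hS
  have := h (refl P i) (refl_mem_weylGroup i) x fun j hj ↦ (hx j hj).le
  rw [refl_smul_weight, map_sub, map_zsmul, sub_le_self_iff] at this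
  by_contra! hneg
  have hlt := zsmul_pos (neg_pos.mpr hneg) (hx i hi)
  rw [smul_neg] at hlt
  exact absurd (neg_pos.mp hlt) (not_lt.mpr this)

lemma exists_dominant_weight {S : Set ι} (hS : IsPosSys P S) (x : M) :
    ∃ g ∈ P.weylGroup, ∀ i ∈ S, 0 ≤ P.coroot' i (g • x) := by
  have : Fintype ι := Fintype.ofFinite ι
  obtain ⟨g, hg, h⟩ := exists_weyl_image_subset (P' := {i | 0 ≤ P.coroot' i x}) hS
    (fun i ↦ by
      rcases le_total 0 (P.coroot' i x) with h | h
      · exact .inl h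
      · refine .inr ?_
        simp only [mem_setOf_eq, RootPairing.coroot', coroot_neg, map_neg, LinearMap.neg_apply]
        exact neg_nonneg.mpr h)
    (fun i j k hi hj hk ↦ by
      have he : formInt P k k • P.coroot k = formInt P i i • P.coroot i + formInt P j j • P.coroot j := by
        rw [formInt_root_smul, formInt_root_smul, formInt_root_smul, hk, map_add, nsmul_add]
      have := congrArg (P.toLinearMap x) he
      simp only [map_add, map_zsmul, smul_eq_mul] at this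
      simp only [mem_setOf_eq] at hi hj ⊢
      have h1 := formInt_self_pos (P := P) i
      have h2 := formInt_self_pos (P := P) j
      have h3 := formInt_self_pos (P := P) k
      change 0 ≤ P.toLinearMap x (P.coroot i) at hi
      change 0 ≤ P.toLinearMap x (P.coroot j) at hj
      change 0 ≤ P.toLinearMap x (P.coroot k)
      generalize P.toLinearMap x (P.coroot k) = vk at this ⊢
      generalize P.toLinearMap x (P.coroot i) = vi at this hi
      generalize P.toLinearMap x (P.coroot j) = vj at this hj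
      generalize formInt P i i = a at *
      generalize formInt P j j = b at *
      generalize formInt P k k = c at *
      nlinarith [mul_nonneg h1.le hi, mul_nonneg h2.le hj])
  refine ⟨g⁻¹, inv_mem hg, fun i hi ↦ ?_⟩
  rw [← coroot'_smul g i (g⁻¹ • x), smul_inv_smul]
  exact h (mem_image_of_mem _ hi)

lemma finite_weylGroup (P : RootPairing ι ℤ M N) : Finite P.weylGroup := by
  refine Finite.of_injective P.weylGroupToPerm fun g h hgh ↦ Subtype.ext (inv_mul_eq_one.mp
    (eq_one_of_fix_roots (mul_mem (inv_mem g.2) h.2) fun i ↦ ?_))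
  rw [mul_smul, inv_smul_eq_iff]
  exact (congrArg (fun e : ι ≃ ι ↦ e i) hgh).symm

lemma weakLE_iff {S : Set ι} (hS : IsPosSys P S) (f₁ f₂ : M →+ Γ)
    (hf₁ : ∀ i ∈ S, 0 ≤ f₁ (P.root i)) (hf₂ : ∀ i ∈ S, 0 ≤ f₂ (P.root i)) :
    (∀ m : M, (∀ i ∈ S, 0 ≤ P.coroot' i m) → f₁ m ≤ f₂ m) ↔
    ∀ (X : Finset M) (hX : X.Nonempty), (∀ g : P.Aut, g ∈ P.weylGroup → ∀ m ∈ X, g • m ∈ X) →
      X.sup' hX f₁ ≤ X.sup' hX f₂ := by
  classical
  constructor
  · intro h X hX hstab
    refine Finset.sup'_le _ _ fun x hx ↦ ?_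
    obtain ⟨g, hg, hd⟩ := exists_dominant_weight hS x
    calc f₁ x = f₁ (g⁻¹ • g • x) := by rw [inv_smul_smul]
      _ ≤ f₁ (g • x) := dominant_weyl_le hS f₁ hf₁ (inv_mem hg) hd
      _ ≤ f₂ (g • x) := h _ hd
      _ ≤ _ := Finset.le_sup' (f := ⇑f₂) (hstab g hg x hx)
  · intro h m hm
    have := finite_weylGroup P
    have : Fintype P.weylGroup := Fintype.ofFinite _
    let X : Finset M := Finset.univ.image fun g : P.weylGroup ↦ (g : P.Aut) • m
    have hX : X.Nonempty := Finset.univ_nonempty.image _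
    have hmX : m ∈ X := Finset.mem_image.mpr ⟨1, Finset.mem_univ _, by rw [OneMemClass.coe_one, one_smul]⟩
    have := h X hX fun g hg x hx ↦ by
      obtain ⟨w, -, rfl⟩ := Finset.mem_image.mp hx
      exact Finset.mem_image.mpr ⟨⟨g, hg⟩ * w, Finset.mem_univ _, by rw [Subgroup.coe_mul, mul_smul]⟩
    refine (Finset.le_sup' (f := ⇑f₁) hmX).trans (this.trans (Finset.sup'_le _ _ fun x hx ↦ ?_))
    obtain ⟨w, -, rfl⟩ := Finset.mem_image.mp hx
    exact dominant_weyl_le hS f₂ hf₂ w.2 hm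

end Groth.RootData
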