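import Mathlib.LinearAlgebra.Matrix.DotProduct
import Mathlib.Tactic.Linarith
import Mathlib.Tactic.LinearCombination
import Mathlib.Tactic.Module

/-!
Solvability of the edge system attached to an obtuse set of vectors in an open half space
with integral Cartan numbers: `a_vw x_v - a_wv x_w = e_vw` on every edge.
-/

namespace Groth.RootData.EdgeSys

variable {m : Type*} [Fintype m]

lemma self_pos {v : m → ℤ} (h : v ≠ 0) : 0 < v ⬝ᵥ v := by
  obtain ⟨i, hi⟩ := Function.ne_iff.mp h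
  exact Finset.sum_pos' (fun j _ ↦ mul_self_nonneg _) ⟨i, Finset.mem_univ i, mul_self_pos.mpr hi⟩

/-- The Cartan number of two vectors. -/
def a (v w : m → ℤ) : ℤ := 2 * (v ⬝ᵥ w) / (w ⬝ᵥ w)

/-- Obtuse sets of vectors in an open half space with integral Cartan numbers. -/
structure Adm (h : (m → ℤ) →+ ℤ) (T : Finset (m → ℤ)) : Prop where
  pos : ∀ v ∈ T, 0 < h v
  dvd : ∀ v ∈ T, ∀ w ∈ T, w ⬝ᵥ w ∣ 2 * (v ⬝ᵥ w)
  obtuse : ∀ v ∈ T, ∀ w ∈ T, v ≠ w → v ⬝ᵥ w ≤ 0

variable {h : (m → ℤ) →+ ℤ} {T : Finset (m → ℤ)}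

lemma Adm.ne_zero (hT : Adm h T) {v : m → ℤ} (hv : v ∈ T) : v ≠ 0 := by
  rintro rfl
  simpa using hT.pos _ hv

lemma Adm.a_spec (hT : Adm h T) {v w : m → ℤ} (hv : v ∈ T) (hw : w ∈ T) :
    2 * (v ⬝ᵥ w) = a v w * (w ⬝ᵥ w) :=
  (Int.ediv_mul_cancel (hT.dvd v hv w hw)).symm

lemma Adm.a_neg (hT : Adm h T) {v w : m → ℤ} (hv : v ∈ T) (hw : w ∈ T) (hne : v ≠ w)
    (hd : v ⬝ᵥ w ≠ 0) : a v w ≤ -1 := by
  have := hT.a_spec hv hw
  have := self_pos (hT.ne_zero hw)
  have := lt_of_le_of_ne (hT.obtuse v hv w hw hne) hd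
  nlinarith

lemma a_eq_zero {v w : m → ℤ} (hd : v ⬝ᵥ w = 0) : a v w = 0 := by simp [a, hd]

lemma Adm.prod_lt (hT : Adm h T) {v w : m → ℤ} (hv : v ∈ T) (hw : w ∈ T) (hne : v ≠ w) :
    a v w * a w v < 4 := by
  have h1 := hT.a_spec hv hw
  have h2 := hT.a_spec hw hv
  rw [dotProduct_comm w v] at h2
  have hvv := self_pos (hT.ne_zero hv)
  have hww := self_pos (hT.ne_zero hw)
  have hd := hT.obtuse v hv w hw hne
  set p := (w ⬝ᵥ w) • v - (v ⬝ᵥ w) • w with hp
  have hp0 : p ≠ 0 := fun e ↦ by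
    have := congrArg h e
    rw [map_sub, map_zsmul, map_zsmul, map_zero, smul_eq_mul, smul_eq_mul] at this
    nlinarith [hT.pos v hv, hT.pos w hw]
  have hq := self_pos hp0
  simp only [hp, sub_dotProduct, dotProduct_sub, smul_dotProduct, dotProduct_smul, smul_eq_mul,
    dotProduct_comm w v] at hq
  have key : (a v w * a w v - 4) * ((v ⬝ᵥ v) * (w ⬝ᵥ w)) < 0 := by
    have e : (a v w * a w v) * ((v ⬝ᵥ v) * (w ⬝ᵥ w)) = 4 * ((v ⬝ᵥ w) * (v ⬝ᵥ w)) := by
      linear_combination (-(a v w * (w ⬝ᵥ w))) * h2 - (2 * (v ⬝ᵥ w)) * h1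
    have : (v ⬝ᵥ w) * (v ⬝ᵥ w) < (v ⬝ᵥ v) * (w ⬝ᵥ w) := by nlinarith
    rw [sub_mul, e]
    linarith
  by_contra hh
  push Not at hh
  nlinarith [mul_pos hvv hww]

/-- Without simple edges every vertex has at most one neighbour. -/
lemma Adm.unique_nbr (hT : Adm h T)
    (hns : ∀ v ∈ T, ∀ w ∈ T, v ≠ w → ¬(a v w = -1 ∧ a w v = -1))
    {v w z : m → ℤ} (hv : v ∈ T) (hw : w ∈ T) (hz : z ∈ T) (hvw : v ≠ w) (hvz : v ≠ z)
    (hw' : v ⬝ᵥ w ≠ 0) (hz' : v ⬝ᵥ z ≠ 0) : w = z := by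
  by_contra hwz
  have h1 := hT.a_spec hv hw
  have h1' := hT.a_spec hw hv
  have h2 := hT.a_spec hv hz
  have h2' := hT.a_spec hz hv
  rw [dotProduct_comm w v] at h1'
  rw [dotProduct_comm z v] at h2'
  have hvv := self_pos (hT.ne_zero hv)
  have hd := hT.obtuse w hw z hz hwz
  have n1 := hT.a_neg hv hw hvw hw'
  have n1' := hT.a_neg hw hv hvw.symm (by rwa [dotProduct_comm])
  have n2 := hT.a_neg hv hz hvz hz'
  have n2' := hT.a_neg hz hv hvz.symm (by rwa [dotProduct_comm])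
  have two : ∀ {x y : ℤ}, x ≤ -1 → y ≤ -1 → ¬(x = -1 ∧ y = -1) → 2 ≤ x * y := fun {x y} hx hy hxy ↦ by
    rcases eq_or_lt_of_le hx with e | e
    · subst e
      have : y ≠ -1 := fun e ↦ hxy ⟨rfl, e⟩
      omega
    · nlinarith
  have p1 := two n1 n1' (hns v hv w hw hvw)
  have p2 := two n2 n2' (hns v hv z hz hvz)
  set p := (2 : ℤ) • v - a v w • w - a v z • z with hp
  have hp0 : p ≠ 0 := fun e ↦ by
    have := congrArg h e
    rw [map_sub, map_sub, map_zsmul, map_zsmul, map_zsmul, map_zero, smul_eq_mul, smul_eq_mul, smul_eq_mul] at this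
    nlinarith [hT.pos v hv, hT.pos w hw, hT.pos z hz]
  have hq := self_pos hp0
  simp only [hp, sub_dotProduct, dotProduct_sub, smul_dotProduct, dotProduct_smul, smul_eq_mul,
    dotProduct_comm w v, dotProduct_comm z v, dotProduct_comm z w] at hq
  have e1 : a v w * a v w * (w ⬝ᵥ w) = a v w * a w v * (v ⬝ᵥ v) := by
    linear_combination (a v w) * h1' - (a v w) * h1
  have e2 : a v z * a v z * (z ⬝ᵥ z) = a v z * a z v * (v ⬝ᵥ v) := by
    linear_combination (a v z) * h2' - (a v z) * h2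
  have hneg : a v w * a v z * (w ⬝ᵥ z) ≤ 0 :=
    mul_nonpos_of_nonneg_of_nonpos (by nlinarith) hd
  nlinarith [mul_le_mul_of_nonneg_right (add_le_add p1 p2) hvv.le,
    mul_le_mul_of_nonneg_left (le_refl (0 : ℤ)) hvv.le]

theorem solve (hT : Adm h T) (e : (m → ℤ) → (m → ℤ) → ℤ)
    (he : ∀ v ∈ T, ∀ w ∈ T, v ≠ w → e w v = -e v w)
    (he0 : ∀ v ∈ T, ∀ w ∈ T, v ≠ w → v ⬝ᵥ w = 0 → e v w = 0) :
    ∃ x : (m → ℤ) → ℤ, ∀ v ∈ T, ∀ w ∈ T, v ≠ w → a v w * x v - a w v * x w = e v w := by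
  classical
  induction hn : T.card using Nat.strong_induction_on generalizing T e with
  | _ n ih =>
  by_cases hns : ∀ v ∈ T, ∀ w ∈ T, v ≠ w → ¬(a v w = -1 ∧ a w v = -1)
  · let x : (m → ℤ) → ℤ := fun v ↦
      if hw : ∃ w, w ∈ T ∧ v ≠ w ∧ a v w = -1 then -e v hw.choose else 0
    refine ⟨x, fun v hv w hw hvw ↦ ?_⟩
    by_cases hd : v ⬝ᵥ w = 0
    · rw [he0 v hv w hw hvw hd, a_eq_zero hd, a_eq_zero ((dotProduct_comm w v).trans hd)]
      simp
    have hd' : w ⬝ᵥ v ≠ 0 := by rwa [dotProduct_comm]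
    have key : ∀ {v w : m → ℤ}, v ∈ T → w ∈ T → v ≠ w → v ⬝ᵥ w ≠ 0 → a v w = -1 → x v = -e v w := by
      intro v w hv hw hvw hd h1
      have hex : ∃ z, z ∈ T ∧ v ≠ z ∧ a v z = -1 := ⟨w, hw, hvw, h1⟩
      obtain ⟨hz, hvz, hz1⟩ := hex.choose_spec
      have hz0 : v ⬝ᵥ hex.choose ≠ 0 := fun e0 ↦ by rw [a_eq_zero e0] at hz1; omega
      simp only [x, dif_pos hex, hT.unique_nbr hns hv hz hw hvz hvw hz0 hd]
    have key0 : ∀ {v w : m → ℤ}, v ∈ T → w ∈ T → v ≠ w → v ⬝ᵥ w ≠ 0 → a v w ≠ -1 → x v = 0 := by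
      intro v w hv hw hvw hd h1
      refine dif_neg fun ⟨z, hz, hvz, hz1⟩ ↦ h1 ?_
      have hz0 : v ⬝ᵥ z ≠ 0 := fun e0 ↦ by rw [a_eq_zero e0] at hz1; omega
      rwa [hT.unique_nbr hns hv hz hw hvz hvw hz0 hd] at hz1
    by_cases h1 : a v w = -1
    · rw [key hv hw hvw hd h1, key0 hw hv hvw.symm hd' (fun e' ↦ hns v hv w hw hvw ⟨h1, e'⟩), h1]
      ring
    · have h2 : a w v = -1 := by
        have := hT.a_neg hv hw hvw hd
        have := hT.a_neg hw hv hvw.symm hd'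
        have := hT.prod_lt hv hw hvw
        by_contra hcon
        have : a w v ≤ -2 := by omega
        nlinarith [mul_le_mul_of_nonpos_right (show a v w ≤ -2 by omega) (show a w v ≤ 0 by omega)]
      rw [key hw hv hvw.symm hd' h2, key0 hv hw hvw hd h1, h2, he v hv w hw hvw]
      ring
  push Not at hns
  obtain ⟨v, hv, w, hw, hvw, h1, h2⟩ := hns
  have s1 := hT.a_spec hv hw
  have s2 := hT.a_spec hw hv
  rw [h1] at s1
  rw [h2, dotProduct_comm w v] at s2
  have hv0 := self_pos (hT.ne_zero hv)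
  set u := v + w with hu
  have huu : u ⬝ᵥ u = v ⬝ᵥ v := by
    simp only [u, add_dotProduct, dotProduct_add, dotProduct_comm w v]; linarith
  have huu' : u ⬝ᵥ u = w ⬝ᵥ w := by linarith
  let T₀ := (T.erase v).erase w
  have hT₀ : ∀ {z}, z ∈ T₀ → z ∈ T ∧ z ≠ v ∧ z ≠ w := fun {z} hz ↦ by
    simp only [T₀, Finset.mem_erase] at hz
    exact ⟨hz.2.2, hz.2.1, hz.1⟩
  have hu0 : u ∉ T₀ := fun hz ↦ by
    obtain ⟨hzT, hzv, hzw⟩ := hT₀ hz
    have a1 := hT.obtuse u hzT v hv hzv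
    have a2 := hT.obtuse u hzT w hw hzw
    have : u ⬝ᵥ u = u ⬝ᵥ v + u ⬝ᵥ w := by rw [← dotProduct_add]
    linarith [self_pos (hT.ne_zero hzT)]
  have dz : ∀ {z}, z ∈ T₀ → u ⬝ᵥ z ≤ 0 := fun {z} hz ↦ by
    obtain ⟨hzT, hzv, hzw⟩ := hT₀ hz
    rw [hu, add_dotProduct]
    have := hT.obtuse v hv z hzT hzv.symm
    have := hT.obtuse w hw z hzT hzw.symm
    omega
  have hadm : Adm h (insert u T₀) := by
    refine ⟨fun z hz ↦ ?_, fun p hp q hq ↦ ?_, fun p hp q hq hpq ↦ ?_⟩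
    · rcases Finset.mem_insert.mp hz with rfl | hz
      · rw [map_add]; have := hT.pos v hv; have := hT.pos w hw; omega
      · exact hT.pos z (hT₀ hz).1
    · rcases Finset.mem_insert.mp hp with rfl | hp' <;> rcases Finset.mem_insert.mp hq with rfl | hq'
      · exact Dvd.intro_left 2 rfl
      · rw [hu, add_dotProduct, mul_add]
        exact dvd_add (hT.dvd v hv q (hT₀ hq').1) (hT.dvd w hw q (hT₀ hq').1)
      · rw [show p ⬝ᵥ u = p ⬝ᵥ v + p ⬝ᵥ w from dotProduct_add _ _ _, mul_add]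
        exact dvd_add (huu ▸ hT.dvd p (hT₀ hp').1 v hv) (huu' ▸ hT.dvd p (hT₀ hp').1 w hw)
      · exact hT.dvd p (hT₀ hp').1 q (hT₀ hq').1
    · rcases Finset.mem_insert.mp hp with rfl | hp' <;> rcases Finset.mem_insert.mp hq with rfl | hq'
      · exact absurd rfl hpq
      · exact dz hq'
      · rw [dotProduct_comm]; exact dz hp'
      · exact hT.obtuse p (hT₀ hp').1 q (hT₀ hq').1 hpq
  have ha1 : ∀ z ∈ T₀, a u z = a v z + a w z ∧ a z u = a z v + a z w := fun z hz ↦ by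
    obtain ⟨hzT, -, -⟩ := hT₀ hz
    have huI : u ∈ insert u T₀ := Finset.mem_insert_self _ _
    have hzI : z ∈ insert u T₀ := Finset.mem_insert_of_mem hz
    have e1 := hadm.a_spec huI hzI
    have e2 := hadm.a_spec hzI huI
    have f1 := hT.a_spec hv hzT
    have f2 := hT.a_spec hw hzT
    have g1 := hT.a_spec hzT hv
    have g2 := hT.a_spec hzT hw
    rw [huu] at e2
    rw [← huu', huu] at g2
    simp only [u, add_dotProduct, dotProduct_add] at e1 e2
    exact ⟨mul_right_cancel₀ (self_pos (hT.ne_zero hzT)).ne' (by linear_combination -e1 + f1 + f2),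
      mul_right_cancel₀ hv0.ne' (by linear_combination -e2 + g1 + g2)⟩
  have hone : ∀ z ∈ T₀, v ⬝ᵥ z = 0 ∨ w ⬝ᵥ z = 0 := fun z hz ↦ by
    by_contra hh
    push Not at hh
    obtain ⟨hzT, hzv, hzw⟩ := hT₀ hz
    obtain ⟨r1, r2⟩ := ha1 z hz
    have := hadm.prod_lt (Finset.mem_insert_self u T₀) (Finset.mem_insert_of_mem hz) (fun e' ↦ hu0 (e' ▸ hz))
    have := hT.a_neg hv hzT hzv.symm hh.1
    have := hT.a_neg hw hzT hzw.symm hh.2
    have := hT.a_neg hzT hv hzv (by rw [dotProduct_comm]; exact hh.1)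
    have := hT.a_neg hzT hw hzw (by rw [dotProduct_comm]; exact hh.2)
    rw [r1, r2] at *
    nlinarith
  let E : (m → ℤ) → ℤ := fun z ↦ e v z + e w z - a w z * e v w
  let e' : (m → ℤ) → (m → ℤ) → ℤ := fun p q ↦ if p = u then E q else if q = u then -E p else e p q
  have hne : ∀ {z}, z ∈ T₀ → z ≠ u := fun {z} hz hzu ↦ hu0 (hzu ▸ hz)
  obtain ⟨x', hx'⟩ := ih (insert u T₀).card (by
      rw [Finset.card_insert_of_notMem hu0, ← hn,
        Finset.card_erase_of_mem (Finset.mem_erase.mpr ⟨hvw.symm, hw⟩), Finset.card_erase_of_mem hv]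
      have : 1 < T.card := Finset.one_lt_card.mpr ⟨v, hv, w, hw, hvw⟩
      omega) hadm e'
    (fun p hp q hq hpq ↦ by
      rcases Finset.mem_insert.mp hp with rfl | hp' <;> rcases Finset.mem_insert.mp hq with rfl | hq'
      · exact absurd rfl hpq
      · simp [e', hne hq']
      · simp [e', hne hp']
      · simpa [e', hne hq', hne hp'] using he p (hT₀ hp').1 q (hT₀ hq').1 hpq)
    (fun p hp q hq hpq hd ↦ by
      have hE : ∀ z ∈ T₀, u ⬝ᵥ z = 0 → E z = 0 := fun z hz hd ↦ by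
        obtain ⟨hzT, hzv, hzw⟩ := hT₀ hz
        rw [hu, add_dotProduct] at hd
        have := hT.obtuse v hv z hzT hzv.symm
        have := hT.obtuse w hw z hzT hzw.symm
        have d1 : v ⬝ᵥ z = 0 := by omega
        have d2 : w ⬝ᵥ z = 0 := by omega
        simp [E, he0 v hv z hzT hzv.symm d1, he0 w hw z hzT hzw.symm d2, a_eq_zero d2]
      rcases Finset.mem_insert.mp hp with rfl | hp' <;> rcases Finset.mem_insert.mp hq with rfl | hq'
      · exact absurd rfl hpq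
      · simp [e', hE q hq' hd]
      · simp [e', hne hp', hE p hp' (by rwa [dotProduct_comm])]
      · simpa [e', hne hq', hne hp'] using he0 p (hT₀ hp').1 q (hT₀ hq').1 hpq hd) rfl
  let x : (m → ℤ) → ℤ := fun z ↦ if z = v then x' u else if z = w then x' u + e v w else x' z
  have half : ∀ p ∈ T, ∀ q ∈ T, p ≠ q → (p = v ∨ p = w) → a p q * x p - a q p * x q = e p q := by
    intro p hp q hq hpq hpvw
    by_cases hq0 : q = v ∨ q = w
    · rcases hpvw with rfl | rfl <;> rcases hq0 with rfl | rfl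
      · exact absurd rfl hpq
      · simp [x, hvw.symm, h1, h2]
      · simp [x, hvw.symm, h1, h2, he _ hv _ hw hvw]
      · exact absurd rfl hpq
    push Not at hq0
    have hqT : q ∈ T₀ := by simp [T₀, hq, hq0.1, hq0.2]
    obtain ⟨r1, r2⟩ := ha1 q hqT
    have hE := hx' u (Finset.mem_insert_self _ _) q (Finset.mem_insert_of_mem hqT) (hne hqT).symm
    simp only [e', if_pos, E, r1, r2] at hE
    have hxq : x q = x' q := by simp [x, hq0.1, hq0.2]
    rcases hone q hqT with d | d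
    · have z1 := a_eq_zero d
      have z2 := a_eq_zero ((dotProduct_comm q v).trans d)
      have z3 := he0 v hv q hq hq0.1.symm d
      rcases hpvw with rfl | rfl
      · rw [z1, z2, z3]; simp
      · rw [hxq]; simp only [x, if_neg hvw.symm, if_pos]
        rw [z1, z2, z3] at hE; linear_combination hE
    · have z1 := a_eq_zero d
      have z2 := a_eq_zero ((dotProduct_comm q w).trans d)
      have z3 := he0 w hw q hq hq0.2.symm d
      rcases hpvw with rfl | rfl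
      · rw [hxq]; simp only [x, if_pos]
        rw [z1, z2, z3] at hE; linear_combination hE
      · rw [z1, z2, z3]; simp
  refine ⟨x, fun p hp q hq hpq ↦ ?_⟩
  by_cases hp0 : p = v ∨ p = w
  · exact half p hp q hq hpq hp0
  by_cases hq0 : q = v ∨ q = w
  · linear_combination -(half q hq p hp hpq.symm hq0) - he p hp q hq hpq
  push Not at hp0 hq0
  have hpT : p ∈ T₀ := by simp [T₀, hp, hp0.1, hp0.2]
  have hqT : q ∈ T₀ := by simp [T₀, hq, hq0.1, hq0.2]
  simpa [x, e', hp0.1, hp0.2, hq0.1, hq0.2, hne hpT, hne hqT] using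
    hx' p (Finset.mem_insert_of_mem hpT) q (Finset.mem_insert_of_mem hqT) hpq

end Groth.RootData.EdgeSys
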