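import Groth.Agent.RootData.IntDatum
import Mathlib.LinearAlgebra.Matrix.PosDef
import Mathlib.Analysis.Matrix.Order
import Mathlib.Analysis.Matrix.PosDef

/-!
Positivity of the Gram matrix of a linearly independent set of roots.
-/

open Set Module Matrix

namespace Groth.RootData

open RootD

set_option linter.unusedSectionVars false

variable {ι M N : Type*} [AddCommGroup M] [AddCommGroup N] {P : RootPairing ι ℤ M N} [Finite ι]
  [Fintype ι]

lemma formInt_quad (T : Finset ι) (x : T → ℤ) :
    ∑ a, ∑ b, x a * x b * formInt P (a : ι) (b : ι) = ∑ k, (∑ a, x a * pI P (a : ι) k) ^ 2 := by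
  symm
  calc ∑ k, (∑ a, x a * pI P (a : ι) k) ^ 2
      = ∑ k, ∑ a, ∑ b, x a * x b * (pI P (a : ι) k * pI P (b : ι) k) := by
        refine Finset.sum_congr rfl fun k _ ↦ ?_
        rw [sq, Finset.sum_mul_sum]
        exact Finset.sum_congr rfl fun a _ ↦ Finset.sum_congr rfl fun b _ ↦ by ring
    _ = _ := by
        simp only [formInt, Finset.mul_sum]
        rw [Finset.sum_comm]
        exact Finset.sum_congr rfl fun a _ ↦ Finset.sum_comm

lemma formInt_quad_pos {T : Finset ι} (hT : LinearIndepOn ℤ P.root (T : Set ι)) {x : T → ℤ}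
    (hx : x ≠ 0) : 0 < ∑ a, ∑ b, x a * x b * formInt P (a : ι) (b : ι) := by
  rw [formInt_quad]
  refine (Finset.sum_nonneg fun k _ ↦ sq_nonneg _).lt_of_ne fun h ↦ hx ?_
  have hv : ∑ a, x a • P.root (a : ι) = 0 := by
    refine eq_zero_of_forall_coroot' (P := P)
      (sum_mem fun a _ ↦ zsmul_mem (Submodule.subset_span (mem_range_self _)) _) fun k ↦ ?_
    have := (Finset.sum_eq_zero_iff_of_nonneg fun k _ ↦ sq_nonneg _).mp h.symm k (Finset.mem_univ k)
    rw [coroot'_zsmul_sum, pow_eq_zero_iff two_ne_zero |>.mp this, Int.cast_zero]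
  funext a
  exact Fintype.linearIndependent_iff.mp hT x hv a

lemma det_gram_pos [DecidableEq ι] {T : Finset ι} (hT : LinearIndepOn ℤ P.root (T : Set ι)) :
    0 < (Matrix.of fun a b : T ↦ formInt P (a : ι) (b : ι)).det := by
  classical
  set G := Matrix.of fun a b : T ↦ formInt P (a : ι) (b : ι) with hG
  have hne : G.det ≠ 0 := fun h0 ↦ by
    obtain ⟨v, hv, hvG⟩ := Matrix.exists_vecMul_eq_zero_iff.mpr h0
    have := formInt_quad_pos hT hv
    rw [Finset.sum_comm] at this
    have hz : ∀ b, ∑ a, v a * v b * formInt P (a : ι) (b : ι) = 0 := fun b ↦ by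
      have h2 : ∑ a, v a * formInt P (a : ι) (b : ι) = 0 := congrFun hvG b
      have h3 := congrArg (v b * ·) h2
      simp only [Finset.mul_sum, mul_zero] at h3
      rw [← h3]
      exact Finset.sum_congr rfl fun a _ ↦ by ring
    exact absurd (Finset.sum_eq_zero fun b _ ↦ hz b) this.ne'
  let A : Matrix T ι ℝ := fun a k ↦ (pI P (a : ι) k : ℝ)
  have hA : A * A.conjTranspose = G.map (Int.castRingHom ℝ) := by
    ext a b
    simp [A, G, Matrix.mul_apply, formInt]
  have h1 : 0 ≤ (G.map (Int.castRingHom ℝ)).det :=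
    hA ▸ (Matrix.posSemidef_self_mul_conjTranspose A).det_nonneg
  have e := RingHom.map_det (Int.castRingHom ℝ) G
  rw [RingHom.mapMatrix_apply] at e
  rw [← e, eq_intCast, Int.cast_nonneg_iff] at h1
  exact lt_of_le_of_ne h1 hne.symm

end Groth.RootData
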