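import Groth.Agent.RootData.Partition
import Mathlib.LinearAlgebra.RootSystem.Finite.CanonicalBilinear

/-!
Sums over positive roots and coroots, and positive systems of the dual pairing.
-/

open Set Module

namespace Groth.RootData

open RootD

set_option linter.unusedSectionVars false

variable {ι R M N : Type*} [CommRing R] [AddCommGroup M] [Module R M] [AddCommGroup N] [Module R N]
  {P : RootPairing ι R M N} [CharZero R] [IsDomain R] [P.IsCrystallographic]

lemma pI_flip (i j : ι) : pI P.flip i j = pI P j i := by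
  apply (algebraMap ℤ R).injective_int
  rw [P.flip.algebraMap_pairingIn, P.algebraMap_pairingIn]
  rfl

variable [Finite ι]

lemma formInt_root_smul [Fintype ι] (k : ι) :
    formInt P k k • P.coroot k = (2 : ℕ) • P.Polarization (P.root k) := by
  rw [← P.rootForm_self_smul_coroot k, ← formInt_cast, Int.cast_smul_eq_zsmul]

lemma formInt_coroot_smul [Fintype ι] (k : ι) :
    formInt P.flip k k • P.root k = (2 : ℕ) • P.CoPolarization (P.coroot k) :=
  formInt_root_smul (P := P.flip) k

lemma IsPosSys.flip {S : Set ι} (hS : IsPosSys P S) : IsPosSys P.flip S := by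
  have : Fintype ι := Fintype.ofFinite ι
  obtain ⟨hd, hc, -⟩ := isPosSys_iff_closed.mp hS
  refine isPosSys_iff_closed.mpr ⟨hd, hc, fun i j k hi hj hk ↦ ?_⟩
  have h : formInt P.flip k k • P.root k = formInt P.flip i i • P.root i + formInt P.flip j j • P.root j := by
    rw [formInt_coroot_smul, formInt_coroot_smul, formInt_coroot_smul,
      show P.coroot k = P.coroot i + P.coroot j from hk, map_add, nsmul_add]
  have hpos : ∀ a, 0 < formInt P.flip a a := fun a ↦ formInt_self_pos (P := P.flip) a
  refine hS.sat (formInt P.flip k k).toNat (by have := hpos k; omega) ?_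
  rw [← natCast_zsmul, Int.toNat_of_nonneg (hpos k).le, h]
  refine add_mem ?_ ?_
  · rw [← Int.toNat_of_nonneg (hpos i).le, natCast_zsmul]
    exact nsmul_mem (root_mem_natSpan hi) _
  · rw [← Int.toNat_of_nonneg (hpos j).le, natCast_zsmul]
    exact nsmul_mem (root_mem_natSpan hj) _

/-- An odd function sums to zero over the positive roots not proportional to a simple root. -/
lemma sum_pos_diff_eq_zero [DecidableEq ι] {S : Finset ι} (hS : IsPosSys P (S : Set ι)) {i : ι}
    (hi : i ∈ simpleOf P (S : Set ι)) {D : Finset ι}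
    (hD : ∀ k ∈ S, k ∈ D ↔ k = i ∨ P.root k = P.root i + P.root i) {A : Type*} [AddCommGroup A]
    [IsAddTorsionFree A] (f : ι → A) (hf : ∀ k, f (P.reflectionPerm i k) = -f k) :
    ∑ k ∈ S \ D, f k = 0 := by
  have hmem : ∀ k ∈ S \ D, P.reflectionPerm i k ∈ S \ D := fun k hk ↦ by
    obtain ⟨hkS, hkD⟩ := Finset.mem_sdiff.mp hk
    rw [hD k hkS, not_or] at hkD
    have hσ : P.reflectionPerm i k ∈ S := refl_mem_pos hS hi hkS hkD.1 hkD.2
    refine Finset.mem_sdiff.mpr ⟨hσ, fun hσD ↦ ?_⟩
    rcases (hD _ hσ).mp hσD with e | e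
    · have : k = neg P i := by
        have e' := congrArg (P.reflectionPerm i) e
        rwa [P.reflectionPerm_self] at e'
      rw [this] at hkS
      exact hS.disjoint hi.1 hkS
    · have : P.root k = -P.root i + -P.root i := by
        have e' := congrArg (P.reflection i) e
        rwa [← P.root_reflectionPerm, P.reflectionPerm_self, map_add, P.reflection_apply_self] at e'
      refine hS.disjoint hkS (IsPosSys.closed hS hi.1 hi.1 ?_)
      rw [root_neg, this, neg_add, _root_.neg_neg]
  have h : ∑ k ∈ S \ D, f k = ∑ k ∈ S \ D, -f k :=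
    Finset.sum_nbij' (P.reflectionPerm i) (P.reflectionPerm i) hmem hmem
      (fun k _ ↦ P.reflectionPerm_self i k) (fun k _ ↦ P.reflectionPerm_self i k)
      (fun k _ ↦ by rw [hf k, _root_.neg_neg])
  rw [Finset.sum_neg_distrib, eq_neg_iff_add_eq_zero, ← two_nsmul] at h
  exact (smul_eq_zero_iff_right two_ne_zero).mp h

lemma pI_reflectionPerm_right (i k : ι) :
    pI P i (P.reflectionPerm i k) = -pI P i k := by
  have h1 := pI_smul (refl P i) (neg P i) k
  rw [refl_smul, refl_smul, neg, P.reflectionPerm_self] at h1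
  rw [h1]
  exact pI_neg_left i k

lemma pI_reflectionPerm_left (i k : ι) :
    pI P (P.reflectionPerm i k) i = -pI P k i := by
  have h1 := pI_smul (refl P i) k (neg P i)
  rw [refl_smul, refl_smul, neg, P.reflectionPerm_self] at h1
  rw [h1]
  exact pI_neg_right k i

lemma pI_double {i k : ι} (e : P.root k = P.root i + P.root i) : pI P i k = 1 ∧ pI P k i = 4 := by
  have h1 := pI_add k e
  have h2 := pI_add i e
  rw [pI_same] at h1 h2
  omega

lemma sum_pI_eq {S : Finset ι} (hS : IsPosSys P (S : Set ι)) {i : ι}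
    (hi : i ∈ simpleOf P (S : Set ι)) :
    0 < ∑ k ∈ S, pI P i k ∧ 0 < ∑ k ∈ S, pI P k i ∧
      ((∀ k, P.root k ≠ P.root i + P.root i) → ∑ k ∈ S, pI P i k = 2) := by
  classical
  set D := S.filter fun k ↦ k = i ∨ P.root k = P.root i + P.root i with hD
  have hD' : ∀ k ∈ S, k ∈ D ↔ k = i ∨ P.root k = P.root i + P.root i := fun k hk ↦ by
    rw [hD, Finset.mem_filter]; exact and_iff_right hk
  have hsub : D ⊆ S := Finset.filter_subset _ _
  have hiD : i ∈ D := (hD' i hi.1).mpr (.inl rfl)
  rw [← Finset.sum_sdiff hsub (f := fun k ↦ pI P i k), ← Finset.sum_sdiff hsub (f := fun k ↦ pI P k i),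
    sum_pos_diff_eq_zero hS hi hD' (fun k ↦ pI P i k) (pI_reflectionPerm_right i),
    sum_pos_diff_eq_zero hS hi hD' (fun k ↦ pI P k i) (pI_reflectionPerm_left i), zero_add, zero_add]
  have hpos : ∀ k ∈ D, 0 < pI P i k ∧ 0 < pI P k i := fun k hk ↦ by
    rcases (hD' k (hsub hk)).mp hk with rfl | e
    · rw [pI_same]; omega
    · obtain ⟨h1, h2⟩ := pI_double e; omega
  refine ⟨Finset.sum_pos (fun k hk ↦ (hpos k hk).1) ⟨i, hiD⟩,
    Finset.sum_pos (fun k hk ↦ (hpos k hk).2) ⟨i, hiD⟩, fun hred ↦ ?_⟩
  rw [Finset.sum_eq_single_of_mem i hiD, pI_same]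
  intro k hk hki
  exact absurd (((hD' k (hsub hk)).mp hk).resolve_left hki) (hred k)

lemma sum_pI_pos_of_mem {S : Finset ι} (hS : IsPosSys P (S : Set ι)) {k : ι} (hk : k ∈ S) :
    0 < ∑ l ∈ S, pI P k l := by
  refine pos_induction hS (p := fun k ↦ 0 < ∑ l ∈ S, pI P k l) (fun k hk ↦ (sum_pI_eq hS hk).1)
    (fun i _ j _ m _ he hi hj ↦ ?_) (Finset.mem_coe.mpr hk)
  rw [show ∑ l ∈ S, pI P m l = ∑ l ∈ S, pI P i l + ∑ l ∈ S, pI P j l by
    rw [← Finset.sum_add_distrib]; exact Finset.sum_congr rfl fun l _ ↦ pI_add l he]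
  exact add_pos hi hj

/-- The dual statement: the sum of positive roots pairs positively with every positive coroot. -/
lemma sum_pI_pos_of_mem' {S : Finset ι} (hS : IsPosSys P (S : Set ι)) {k : ι} (hk : k ∈ S) :
    0 < ∑ l ∈ S, pI P l k := by
  have := sum_pI_pos_of_mem (P := P.flip) (IsPosSys.flip hS) hk
  simpa only [pI_flip] using this

lemma isReduced_no_double [P.IsReduced] (i k : ι) : P.root k ≠ P.root i + P.root i := fun e ↦ by
  have hdep : ¬ LinearIndependent R ![P.root k, P.root i] := fun h ↦ by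
    have := LinearIndependent.pair_iff.mp h 1 (-2) (by rw [e]; module)
    simp at this
  rcases RootPairing.IsReduced.eq_or_eq_neg k i hdep with h | h
  · exact P.ne_zero i (left_eq_add.mp (h.symm.trans e))
  · have h3 : (3 : ℤ) • P.root i = 0 := by linear_combination (norm := module) e.symm.trans h
    exact P.ne_zero i (zsmul_right_cancel P (three_ne_zero : (3 : ℤ) ≠ 0) (h3.trans (smul_zero _).symm))

lemma isIndiv_of_isReduced [P.IsReduced] (i : ι) : IsIndiv P i :=
  isIndiv_iff.mpr fun j e ↦ isReduced_no_double j i e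

end Groth.RootData
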