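import Groth.Agent.RootData.Weyl

/-!
Facts specific to root data, i.e. pairings over `ℤ`, and bridging lemmas to bases.
-/

open Set Module

namespace Groth.RootData

open RootD

set_option linter.unusedSectionVars false

section Int

variable {ι M N : Type*} [AddCommGroup M] [AddCommGroup N] {P : RootPairing ι ℤ M N}

lemma pI_eq_pairing (i j : ι) : pI P i j = P.pairing i j := P.algebraMap_pairingIn ℤ i j

variable [Finite ι]

lemma inSpan_symm (Δ : Set ι) {k : ι} (hk : k ∈ inSpan P Δ) : neg P k ∈ inSpan P Δ := by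
  simp only [inSpan, mem_setOf_eq, root_neg] at hk ⊢
  exact neg_mem hk

lemma refl_mem_inSpan {Δ : Set ι} {a k : ι} (ha : a ∈ inSpan P Δ) (hk : k ∈ inSpan P Δ) :
    P.reflectionPerm a k ∈ inSpan P Δ := by
  simp only [inSpan, mem_setOf_eq] at hk ha ⊢
  rw [root_reflectionPerm_eq]
  exact sub_mem hk (Submodule.smul_mem _ _ ha)

lemma subset_inSpan (Δ : Set ι) : Δ ⊆ inSpan P Δ :=
  fun _ h ↦ Submodule.subset_span (mem_image_of_mem _ h)

end Int

section Base

variable {ι R M N : Type*} [CommRing R] [AddCommGroup M] [Module R M] [AddCommGroup N] [Module R N]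
  {P : RootPairing ι R M N} [CharZero R] [IsDomain R] [P.IsCrystallographic] [Finite ι]

lemma Base.isSimpleSys (b : P.Base) : IsSimpleSys P (b.support : Set ι) :=
  ⟨b.linearIndepOn_root, b.root_mem_or_neg_mem⟩

lemma Base.mem_posOf_iff (b : P.Base) (i : ι) : i ∈ posOf P (b.support : Set ι) ↔ b.IsPos i := by
  have key : ∀ i, i ∈ posOf P (b.support : Set ι) → b.IsPos i := fun i hi ↦ by
    obtain ⟨c, hc, hc0, hci⟩ := mem_natSpan_exists_int (hi : P.root i ∈ _)
    rw [Finsupp.linearCombination_apply,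
      Finsupp.sum_of_support_subset c (Finset.coe_subset.mp hc) (fun a x ↦ x • P.root a)
        (fun a _ ↦ zero_smul ℤ _)] at hci
    rw [RootPairing.Base.isPos_iff', b.height_eq_sum hci.symm]
    exact Finset.sum_nonneg fun a _ ↦ hc0 a
  refine ⟨key i, fun h ↦ ((IsSimpleSys.isPosSys (Base.isSimpleSys b)).cover i).resolve_right
    fun hn ↦ ?_⟩
  exact (RootPairing.Base.IsPos.neg_iff_not b i).mp (key _ hn) h

end Base

end Groth.RootData
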