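import Groth.Agent.RootData.Height

/-!
Simple systems from rational cones; the simple system of the dual pairing.
-/

open Set Module

namespace Groth.RootData

open RootD

set_option linter.unusedSectionVars false

variable {ι R M N : Type*} [CommRing R] [AddCommGroup M] [Module R M] [AddCommGroup N] [Module R N]
  {P : RootPairing ι R M N} [CharZero R] [IsDomain R] [P.IsCrystallographic] [Finite ι]

lemma natSpan_exists_cast {S : Set ι} {x : M} (h : x ∈ natSpan P S) {n : ℕ} :
    n • x ∈ natSpan P S := nsmul_mem h n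

lemma isSimpleSys_of_ratCone {Δ : Set ι} (hind : ∀ i ∈ Δ, IsIndiv P i)
    (hli : LinearIndepOn ℤ P.root Δ)
    (hcone : ∀ k : ι, ∃ n : ℕ, 0 < n ∧
      (n • P.root k ∈ natSpan P Δ ∨ n • (-P.root k) ∈ natSpan P Δ)) :
    IsSimpleSys P Δ := by
  classical
  have := isAddTorsionFree_weight P
  let S : Set ι := {k | ∃ n : ℕ, 0 < n ∧ n • P.root k ∈ natSpan P Δ}
  have hS : IsPosSys P S := by
    refine isPosSys_iff_closed.mpr ⟨?_, fun i ↦ ?_, ?_⟩
    · rintro i ⟨n, hn, hi⟩ ⟨m, hm, hni⟩
      rw [root_neg, smul_neg] at hni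
      have h1 := nsmul_mem hi m
      have h2 := nsmul_mem hni n
      rw [smul_neg, smul_smul, mul_comm] at h2
      rw [smul_smul] at h1
      exact P.ne_zero i ((smul_eq_zero_iff_right (Nat.mul_ne_zero hm.ne' hn.ne')).mp
        (natSpan_pointed hli h1 h2))
    · obtain ⟨n, hn, h | h⟩ := hcone i
      · exact .inl ⟨n, hn, h⟩
      · exact .inr ⟨n, hn, by rwa [root_neg]⟩
    · rintro i j k ⟨n, hn, hi⟩ ⟨m, hm, hj⟩ hk
      refine ⟨n * m, Nat.mul_pos hn hm, ?_⟩
      rw [hk, smul_add]
      refine add_mem ?_ ?_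
      · rw [mul_comm, mul_smul]; exact nsmul_mem hi m
      · rw [mul_smul]; exact nsmul_mem hj n
  have hΔS : ∀ i ∈ Δ, i ∈ simpleOf P S := fun i hi ↦ by
    refine ⟨⟨1, one_pos, by rw [one_nsmul]; exact root_mem_natSpan hi⟩, ?_⟩
    rintro a ⟨n, hn, ha⟩ b ⟨m, hm, hb⟩ he
    obtain ⟨c, hc, hc0, hca⟩ := mem_natSpan_exists_int ha
    obtain ⟨d, hd, hd0, hdb⟩ := mem_natSpan_exists_int hb
    have heq := eq_of_linearCombination_eq hli (c := (m : ℤ) • c + (n : ℤ) • d)
      (d := Finsupp.single i ((n : ℤ) * m))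
      (fun x hx ↦ (Finset.mem_union.mp (Finsupp.support_add hx)).elim
        (fun h ↦ hc (Finsupp.support_smul h)) (fun h ↦ hd (Finsupp.support_smul h)))
      (fun x hx ↦ Finset.mem_singleton.mp (Finsupp.support_single_subset hx) ▸ hi)
      (by simp only [map_add, map_smul, hca, hdb, Finsupp.linearCombination_single, he]; module)
    have hsupp : ∀ x, x ≠ i → c x = 0 ∧ d x = 0 := fun x hx ↦ by
      have e := DFunLike.congr_fun heq x
      simp only [Finsupp.add_apply, Finsupp.smul_apply, smul_eq_mul, Finsupp.single_apply,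
        if_neg (Ne.symm hx)] at e
      have h1 : (0 : ℤ) ≤ m * c x := mul_nonneg (by omega) (hc0 x)
      have h2 : (0 : ℤ) ≤ n * d x := mul_nonneg (by omega) (hd0 x)
      have e1 : (m : ℤ) * c x = 0 := by omega
      have e2 : (n : ℤ) * d x = 0 := by omega
      exact ⟨(mul_eq_zero.mp e1).resolve_left (by omega), (mul_eq_zero.mp e2).resolve_left (by omega)⟩
    have hpa : (n : ℤ) • P.root a = c i • P.root i := by
      rw [natCast_zsmul, ← hca, show c = Finsupp.single i (c i) from Finsupp.ext fun x ↦ by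
        rcases eq_or_ne x i with rfl | hx
        · simp
        · simp [Ne.symm hx, (hsupp x hx).1], Finsupp.linearCombination_single]
      simp
    have hpb : (m : ℤ) • P.root b = d i • P.root i := by
      rw [natCast_zsmul, ← hdb, show d = Finsupp.single i (d i) from Finsupp.ext fun x ↦ by
        rcases eq_or_ne x i with rfl | hx
        · simp
        · simp [Ne.symm hx, (hsupp x hx).2], Finsupp.linearCombination_single]
      simp
    have key : ∀ (a : ι) (n : ℕ) (c : ℤ), 0 < n → 0 ≤ c → (n : ℤ) • P.root a = c • P.root i →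
        a = i ∨ P.root a = P.root i + P.root i ∨ P.root i = P.root a + P.root a := by
      intro a n c hn hc hp
      rcases prop_cases (by omega : (n : ℤ) ≠ 0) hp with e | e | e | e | e | e
      · exact .inl e
      · exfalso
        rw [e, root_neg] at hp
        have h0 : ((n : ℤ) + c) • P.root i = 0 := by linear_combination (norm := module) -hp
        exact P.ne_zero i ((smul_eq_zero_iff_right (show ((n : ℤ) + c) ≠ 0 by omega)).mp h0)
      · exact .inr (.inl e)
      · exfalso
        rw [e] at hp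
        have h0 : (2 * (n : ℤ) + c) • P.root i = 0 := by linear_combination (norm := module) -hp
        exact P.ne_zero i ((smul_eq_zero_iff_right (show (2 * (n : ℤ) + c) ≠ 0 by omega)).mp h0)
      · exact .inr (.inr e)
      · exfalso
        rw [e] at hp
        have h0 : ((n : ℤ) + 2 * c) • P.root a = 0 := by linear_combination (norm := module) hp
        exact P.ne_zero a ((smul_eq_zero_iff_right (show ((n : ℤ) + 2 * c) ≠ 0 by omega)).mp h0)
    have hii := isIndiv_iff.mp (hind i hi)
    have mul_i : ∀ z : ℤ, z ≠ 0 → z • P.root i ≠ 0 := fun z hz h ↦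
      P.ne_zero i ((smul_eq_zero_iff_right hz).mp h)
    rcases key a n (c i) hn (hc0 i) hpa with e | e | e
    · exact P.ne_zero b (by rw [e] at he; exact left_eq_add.mp he)
    · rcases key b m (d i) hm (hd0 i) hpb with e' | e' | e'
      · exact mul_i 2 two_ne_zero (by rw [e, e'] at he; linear_combination (norm := module) -he)
      · exact mul_i 3 three_ne_zero (by rw [e, e'] at he; linear_combination (norm := module) -he)
      · exact hii b e'
    · exact hii a e
  have hΔ₀ := isSimpleSys_simpleOf hS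
  have heq : simpleOf P S = Δ := by
    refine subset_antisymm (fun k hk ↦ ?_) hΔS
    obtain ⟨n, hn, h⟩ := hk.1
    obtain ⟨c, hc, -, hck⟩ := mem_natSpan_exists_int h
    have h1 := eq_of_linearCombination_eq (linIndepOn_int hΔ₀.linInd) (c := c)
      (d := Finsupp.single k (n : ℤ)) (hc.trans hΔS)
      (fun x hx ↦ Finset.mem_singleton.mp (Finsupp.support_single_subset hx) ▸ hk)
      (by simp [hck])
    refine hc (Finsupp.mem_support_iff.mpr ?_)
    rw [h1, Finsupp.single_eq_same]
    omega
  exact heq ▸ hΔ₀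

/-- The coroot, or half of it when that is a coroot. -/
lemma exists_indiv_coroot (i : ι) :
    ∃ j, IsIndiv P.flip j ∧ (j = i ∧ IsIndiv P.flip i ∨ (2 : R) • P.coroot j = P.coroot i) := by
  rcases indiv_or_double (P := P.flip) i with h | ⟨j, hj, h⟩
  · exact ⟨i, h, .inl ⟨rfl, h⟩⟩
  · exact ⟨j, hj, .inr (by rw [two_smul]; exact h.symm)⟩

lemma isSimpleSys_indCoroots {Δ : Set ι} (hΔ : IsSimpleSys P Δ) :
    IsSimpleSys P.flip
      {j : ι | ∃ i ∈ Δ, (j = i ∧ IsIndiv P.flip i) ∨ (2 : R) • P.coroot j = P.coroot i} := by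
  classical
  have : Fintype ι := Fintype.ofFinite ι
  have := isAddTorsionFree_weight P
  set D := {j : ι | ∃ i ∈ Δ, (j = i ∧ IsIndiv P.flip i) ∨ (2 : R) • P.coroot j = P.coroot i} with hD
  have hfac : ∀ {j i : ι}, ((j = i ∧ IsIndiv P.flip i) ∨ (2 : R) • P.coroot j = P.coroot i) →
      ∃ e : ℕ, (e = 1 ∨ e = 2) ∧ P.coroot i = e • P.coroot j ∧ P.root j = e • P.root i := by
    rintro j i (⟨rfl, -⟩ | h)
    · exact ⟨1, .inl rfl, by simp, by simp⟩
    · rw [two_smul] at h
      refine ⟨2, .inr rfl, by rw [two_nsmul, h], ?_⟩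
      rw [two_nsmul]
      exact coroot_of_double (P := P.flip) (i := j) (j := i) h.symm
  have hind : ∀ j ∈ D, IsIndiv P.flip j := by
    rintro j ⟨i, -, ⟨rfl, h⟩ | h⟩
    · exact h
    · exact isIndiv_of_double (P := P.flip) (i := j) (j := i) (by rw [two_smul] at h; exact h.symm)
  refine isSimpleSys_of_ratCone hind ?_ fun k ↦ ?_
  · refine linearIndepOn_iff.mpr fun c hc hc0 ↦ ?_
    have hcD : ∀ j, c j ≠ 0 → j ∈ D := fun j hj ↦
      (Finsupp.mem_supported _ _).mp hc (Finsupp.mem_support_iff.mpr hj)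
    choose! g hgΔ hg using (fun j (hj : j ∈ D) ↦ hj)
    have hginj : ∀ a ∈ D, ∀ b ∈ D, g a = g b → a = b := fun a ha b hb h ↦ by
      rcases hg a ha with ⟨e1, h1⟩ | h1 <;> rcases hg b hb with ⟨e2, h2⟩ | h2
      · exact e1.trans (h.trans e2.symm)
      · exact absurd (by rw [two_smul] at h2; rw [h]; exact h2.symm) (isIndiv_iff.mp h1 b)
      · exact absurd (by rw [two_smul] at h1; rw [← h]; exact h1.symm) (isIndiv_iff.mp h2 a)
      · have hN := isAddTorsionFree_coweight P
        rw [two_smul] at h1 h2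
        refine P.coroot.injective ((smul_right_injective N (two_ne_zero : (2 : ℕ) ≠ 0)) ?_)
        simp only [two_nsmul]
        rw [h1, h2, h]
    choose! e he12 hec her using (fun j (hj : j ∈ D) ↦ hfac (hg j hj))
    rw [Finsupp.linearCombination_apply, Finsupp.sum] at hc0
    have h1 : ∑ j ∈ c.support, (c j * formInt P.flip j j * e j) • P.root (g j) = 0 := by
      have := congrArg (fun x ↦ (2 : ℕ) • P.CoPolarization x) hc0
      simp only [map_sum, map_zero, smul_zero, Finset.smul_sum, map_zsmul] at this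
      rw [← this]
      refine Finset.sum_congr rfl fun j hj ↦ ?_
      have hjD := hcD j (Finsupp.mem_support_iff.mp hj)
      rw [smul_comm (2 : ℕ) (c j)]
      change _ = c j • ((2 : ℕ) • P.CoPolarization (P.coroot j))
      rw [← formInt_coroot_smul, her j hjD]
      module
    have h2 := linearIndepOn_iff'.mp (linIndepOn_int hΔ.linInd) (c.support.image g)
      (fun i ↦ ∑ j ∈ c.support with g j = i, c j * formInt P.flip j j * e j)
      (by intro x hx; obtain ⟨j, hj, rfl⟩ := Finset.mem_image.mp (Finset.mem_coe.mp hx)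
          exact hgΔ j (hcD j (Finsupp.mem_support_iff.mp hj))) (by
        rw [← h1, ← Finset.sum_fiberwise_of_maps_to (t := c.support.image g) (g := g)
          (fun j hj ↦ Finset.mem_image_of_mem g hj) fun j ↦ (c j * formInt P.flip j j * e j) • P.root (g j)]
        refine Finset.sum_congr rfl fun i _ ↦ ?_
        rw [Finset.sum_smul]
        exact Finset.sum_congr rfl fun j hj ↦ by rw [(Finset.mem_filter.mp hj).2])
    ext j
    by_contra hj
    have hjD := hcD j hj
    have h3 := h2 (g j) (Finset.mem_image_of_mem g (Finsupp.mem_support_iff.mpr hj))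
    rw [Finset.sum_eq_single_of_mem j ((Finset.mem_filter (p := fun x ↦ g x = g j)).mpr ⟨Finsupp.mem_support_iff.mpr hj, rfl⟩)
      (fun b hb hbj ↦ absurd (hginj b (hcD b (Finsupp.mem_support_iff.mp (Finset.mem_filter.mp hb).1))
        j hjD (Finset.mem_filter.mp hb).2) hbj)] at h3
    simp only [mul_eq_zero, Finsupp.coe_zero, Pi.zero_apply] at h3 hj
    have := formInt_self_pos (P := P.flip) j
    rcases he12 j hjD with e' | e' <;> omega
  · have key : ∀ k ∈ posOf P Δ, ∃ n : ℕ, 0 < n ∧ n • P.coroot k ∈ natSpan P.flip D := fun k hk ↦ by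
      obtain ⟨c, hc, hc0, hck⟩ := mem_natSpan_exists_int (hk : P.root k ∈ _)
      refine ⟨(formInt P k k).toNat, by have := formInt_self_pos (P := P) k; omega, ?_⟩
      rw [← natCast_zsmul, Int.toNat_of_nonneg (formInt_self_pos (P := P) k).le, formInt_root_smul,
        ← hck, Finsupp.linearCombination_apply, Finsupp.sum, map_sum, Finset.smul_sum]
      refine sum_mem fun a ha ↦ ?_
      rw [map_zsmul, smul_comm, ← formInt_root_smul, smul_smul,
        ← Int.toNat_of_nonneg (mul_nonneg (hc0 a) (formInt_self_pos (P := P) a).le), natCast_zsmul]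
      refine nsmul_mem ?_ _
      obtain ⟨j, -, hj⟩ := exists_indiv_coroot (P := P) a
      obtain ⟨e, -, hec, -⟩ := hfac hj
      rw [hec]
      exact nsmul_mem (root_mem_natSpan (P := P.flip) (S := D) ⟨a, hc ha, hj⟩) _
    rcases (IsSimpleSys.isPosSys hΔ).cover k with h | h
    · obtain ⟨n, hn, h'⟩ := key k h
      exact ⟨n, hn, .inl h'⟩
    · obtain ⟨n, hn, h'⟩ := key _ h
      exact ⟨n, hn, .inr (by rwa [coroot_neg] at h')⟩

end Groth.RootData
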