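import Groth.Agent.RootData.Partition
import Groth.Agent.RootData.RatCone

/-!
Lengths of roots in irreducible root data.
-/

open Set Module

namespace Groth.RootData

open RootD

set_option linter.unusedSectionVars false

variable {ι M N : Type*} [AddCommGroup M] [AddCommGroup N] {P : RootPairing ι ℤ M N} [Finite ι]

lemma formInt_eq_rootForm [Fintype ι] (a b : ι) :
    P.RootForm (P.root a) (P.root b) = formInt P a b := by
  rw [← formInt_cast, Int.cast_id]

lemma formInt_flip_eq [Fintype ι] (a b : ι) :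
    P.CorootForm (P.coroot a) (P.coroot b) = formInt P.flip a b :=
  formInt_eq_rootForm (P := P.flip) a b

lemma pI_swap [Fintype ι] (i j : ι) : pI P i j * formInt P j j = pI P j i * formInt P i i := by
  rw [← two_mul_formInt, ← two_mul_formInt, formInt_comm]

lemma formInt_mul_eq [Fintype ι] {i j : ι} (h : pI P i j ≠ 0) :
    formInt P i i * formInt P.flip i i = formInt P j j * formInt P.flip j j := by
  have h1 := pI_swap (P := P) i j
  have h2 := pI_swap (P := P.flip) i j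
  rw [pI_flip, pI_flip] at h2
  refine mul_left_cancel₀ h ?_
  calc pI P i j * (formInt P i i * formInt P.flip i i)
      = formInt P i i * (pI P i j * formInt P.flip i i) := by ring
    _ = formInt P i i * (pI P j i * formInt P.flip j j) := by rw [h2]
    _ = (pI P j i * formInt P i i) * formInt P.flip j j := by ring
    _ = (pI P i j * formInt P j j) * formInt P.flip j j := by rw [h1]
    _ = _ := by ring

lemma formInt_smul [Fintype ι] (g : P.Aut) (a b : ι) :
    formInt P (g • a) (g • b) = formInt P a b := by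
  rw [formInt, formInt]
  refine (Fintype.sum_equiv (MulAction.toPerm g) _ _ fun k ↦ ?_).symm
  rw [MulAction.toPerm_apply, pI_smul, pI_smul]

lemma connected (hirr : ∀ R' : Set ι, IsClosedSub P R' → IsSymmSub P R' → IsClosedSub P R'ᶜ →
      IsSymmSub P R'ᶜ → R' = ∅ ∨ R' = Set.univ) (i j : ι) :
    Relation.ReflTransGen (fun a b : ι => ¬ P.IsOrthogonal a b) i j := by
  obtain ⟨h1, h2, h3, h4⟩ := component_closed (P := P) i
  have h := (hirr _ h1 h2 h3 h4).resolve_left
    (nonempty_iff_ne_empty.mp ⟨i, Relation.ReflTransGen.refl⟩)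
  exact (eq_univ_iff_forall.mp h) j

lemma flip_irreducible (hirr : ∀ R' : Set ι, IsClosedSub P R' → IsSymmSub P R' → IsClosedSub P R'ᶜ →
      IsSymmSub P R'ᶜ → R' = ∅ ∨ R' = Set.univ) (R' : Set ι) (hc : IsClosedSub P.flip R')
    (hs : IsSymmSub P.flip R') (hc' : IsClosedSub P.flip R'ᶜ) (hs' : IsSymmSub P.flip R'ᶜ) :
    R' = ∅ ∨ R' = Set.univ := by
  rcases R'.eq_empty_or_nonempty with h | ⟨i, hi⟩
  · exact .inl h
  refine .inr (eq_univ_iff_forall.mpr fun j ↦ ?_)
  induction connected hirr i j with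
  | refl => exact hi
  | tail _ h ih => exact part_not_orth (P := P.flip) hc hs hc' hs' ih fun e ↦ h ⟨e.2, e.1⟩

lemma pI_refl_left (l a k : ι) :
    pI P (P.reflectionPerm l a) k = pI P a k - pI P a l * pI P l k := by
  have h := congrArg (P.coroot' k) (root_reflectionPerm_eq (P := P) l a)
  rw [map_sub, map_zsmul, coroot'_root, coroot'_root, coroot'_root] at h
  simpa using h

/-- In the irreducible case some conjugate of `i` is not orthogonal to `j`. -/
lemma exists_weyl_not_orth (hirr : ∀ R' : Set ι, IsClosedSub P R' → IsSymmSub P R' → IsClosedSub P R'ᶜ →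
      IsSymmSub P R'ᶜ → R' = ∅ ∨ R' = Set.univ) (i j : ι) :
    ∃ g ∈ P.weylGroup, pI P (g • i) j ≠ 0 := by
  induction connected hirr i j with
  | refl => exact ⟨1, one_mem _, by rw [one_smul, pI_same]; omega⟩
  | @tail l k _ h ih =>
    obtain ⟨g, hg, hgl⟩ := ih
    by_contra! hk
    have h1 := hk g hg
    have h2 := hk (refl P l * g) (mul_mem (refl_mem_weylGroup l) hg)
    rw [mul_smul, refl_smul, pI_refl_left, h1, zero_sub, neg_eq_zero, mul_eq_zero] at h2
    exact not_isOrthogonal_iff.mp h (h2.resolve_left hgl)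

lemma pairing_mem (i j : ι) :
    (pI P i j, pI P j i) ∈
      ({(0, 0), (1, 1), (-1, -1), (1, 2), (2, 1), (-1, -2), (-2, -1), (1, 3), (3, 1), (-1, -3),
        (-3, -1), (4, 1), (1, 4), (-4, -1), (-1, -4), (2, 2), (-2, -2)} : Set (ℤ × ℤ)) :=
  P.pairingIn_pairingIn_mem_set_of_isCrystallographic i j

lemma weyl_conj_of_length_eq [Fintype ι] {i j : ι} (h : pI P i j ≠ 0)
    (hl : formInt P i i = formInt P j j) : ∃ g ∈ P.weylGroup, g • i = j := by
  have hp := pI_swap (P := P) i j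
  rw [hl] at hp
  have hp' : pI P i j = pI P j i := mul_right_cancel₀ (formInt_self_pos j).ne' hp
  have hm := pairing_mem (P := P) i j
  simp only [mem_insert_iff, mem_singleton_iff, Prod.mk.injEq] at hm
  have hcases : pI P i j = 1 ∨ pI P i j = -1 ∨ pI P i j = 2 ∨ pI P i j = -2 := by omega
  have : Module.IsReflexive ℤ M := .of_isPerfPair P.toLinearMap
  have hsub : ∀ {p}, pI P i j = p → P.root (refl P j • i) = P.root i - p • P.root j := fun e ↦ by
    rw [refl_smul, root_reflectionPerm_eq, e]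
  rcases hcases with e | e | e | e
  · refine ⟨refl P j * refl P i * refl P j,
      mul_mem (mul_mem (refl_mem_weylGroup j) (refl_mem_weylGroup i)) (refl_mem_weylGroup j),
      P.root.injective ?_⟩
    rw [mul_smul, mul_smul, root_smul, root_smul, hsub e, refl_smul_weight, refl_smul_weight]
    simp only [map_sub, map_zsmul, coroot'_root, pI_same, e, ← hp', smul_eq_mul, Int.cast_id]
    module
  · refine ⟨refl P i * refl P j, mul_mem (refl_mem_weylGroup i) (refl_mem_weylGroup j),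
      P.root.injective ?_⟩
    rw [mul_smul, root_smul, hsub e, refl_smul_weight]
    simp only [map_sub, map_zsmul, coroot'_root, pI_same, e, ← hp', smul_eq_mul, Int.cast_id]
    module
  · exact ⟨1, one_mem _, by rw [one_smul]; exact (P.pairingIn_two_two_iff ℤ i j).mp ⟨e, hp'.symm.trans e⟩⟩
  · refine ⟨refl P i, refl_mem_weylGroup i, P.root.injective ?_⟩
    rw [refl_smul_self, root_neg, (P.pairingIn_neg_two_neg_two_iff ℤ i j).mp ⟨e, hp'.symm.trans e⟩,
      _root_.neg_neg]

lemma dvd_min [Fintype ι] (hirr : ∀ R' : Set ι, IsClosedSub P R' → IsSymmSub P R' → IsClosedSub P R'ᶜ →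
      IsSymmSub P R'ᶜ → R' = ∅ ∨ R' = Set.univ) (i₀ : ι)
    (hmin : ∀ i, formInt P i₀ i₀ ≤ formInt P i i) (i : ι) : formInt P i₀ i₀ ∣ formInt P i i := by
  obtain ⟨g, -, hne⟩ := exists_weyl_not_orth hirr i₀ i
  have hp := pI_swap (P := P) (g • i₀) i
  rw [formInt_smul] at hp
  have hm := pairing_mem (P := P) (g • i₀) i
  have := hmin i
  have := formInt_self_pos (P := P) i₀
  simp only [mem_insert_iff, mem_singleton_iff, Prod.mk.injEq] at hm
  generalize pI P (g • i₀) i = p at *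
  generalize pI P i (g • i₀) = q at *
  generalize formInt P i₀ i₀ = A at *
  generalize formInt P i i = B at *
  rcases hm with ⟨rfl, rfl⟩ | ⟨rfl, rfl⟩ | ⟨rfl, rfl⟩ | ⟨rfl, rfl⟩ | ⟨rfl, rfl⟩ | ⟨rfl, rfl⟩ |
    ⟨rfl, rfl⟩ | ⟨rfl, rfl⟩ | ⟨rfl, rfl⟩ | ⟨rfl, rfl⟩ | ⟨rfl, rfl⟩ | ⟨rfl, rfl⟩ | ⟨rfl, rfl⟩ |
    ⟨rfl, rfl⟩ | ⟨rfl, rfl⟩ | ⟨rfl, rfl⟩ | ⟨rfl, rfl⟩ <;>
  first
    | omega
    | exact ⟨1, by omega⟩
    | exact ⟨2, by omega⟩
    | exact ⟨3, by omega⟩
    | exact ⟨4, by omega⟩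

lemma ratio_cases [Fintype ι] [P.IsReduced] (hirr : ∀ R' : Set ι, IsClosedSub P R' → IsSymmSub P R' → IsClosedSub P R'ᶜ →
      IsSymmSub P R'ᶜ → R' = ∅ ∨ R' = Set.univ) (i j : ι) :
    formInt P i i = formInt P j j ∨ formInt P i i = 2 * formInt P j j ∨
      formInt P i i = 3 * formInt P j j ∨ formInt P j j = 2 * formInt P i i ∨
      formInt P j j = 3 * formInt P i i := by
  obtain ⟨g, -, hne⟩ := exists_weyl_not_orth hirr i j
  have hp := pI_swap (P := P) (g • i) j
  rw [formInt_smul] at hp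
  have hm : (pI P (g • i) j, pI P j (g • i)) ∈ _ :=
    P.pairingIn_pairingIn_mem_set_of_isCrystal_of_isRed (g • i) j
  simp only [mem_insert_iff, mem_singleton_iff, Prod.mk.injEq] at hm
  generalize pI P (g • i) j = p at *
  generalize pI P j (g • i) = q at *
  rcases hm with ⟨rfl, rfl⟩ | ⟨rfl, rfl⟩ | ⟨rfl, rfl⟩ | ⟨rfl, rfl⟩ | ⟨rfl, rfl⟩ | ⟨rfl, rfl⟩ |
    ⟨rfl, rfl⟩ | ⟨rfl, rfl⟩ | ⟨rfl, rfl⟩ | ⟨rfl, rfl⟩ | ⟨rfl, rfl⟩ | ⟨rfl, rfl⟩ | ⟨rfl, rfl⟩ <;> omega

end Groth.RootData
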