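import Groth.Agent.RootData.IntDatum
import Mathlib.LinearAlgebra.RootSystem.CartanMatrix

/-!
Isomorphisms of root data from bases.
-/

open Set Module

namespace Groth.RootData

open RootD

set_option linter.unusedSectionVars false

variable {ι M N ι' M' N' : Type*} [AddCommGroup M] [AddCommGroup N] [AddCommGroup M'] [AddCommGroup N']
  {P : RootPairing ι ℤ M N} {P' : RootPairing ι' ℤ M' N'} [Finite ι] [Finite ι'] [P.IsReduced]

/-- A linear map matching simple roots and coroots matches all roots and coroots. -/
lemma exists_index (b : P.Base) (f : M ≃ₗ[ℤ] M') (u : b.support → ι')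
    (hf : ∀ i : b.support, f (P.root i) = P'.root (u i))
    (hc : ∀ (i : b.support) (x : M), P'.coroot' (u i) (f x) = P.coroot' i x) (i : ι) :
    ∃ i' : ι', f (P.root i) = P'.root i' ∧ ∀ x, P'.coroot' i' (f x) = P.coroot' i x := by
  refine b.induction_reflect i (p := fun i ↦ ∃ i' : ι', f (P.root i) = P'.root i' ∧
    ∀ x, P'.coroot' i' (f x) = P.coroot' i x) ?_ (fun j hj ↦ ⟨u ⟨j, hj⟩, hf ⟨j, hj⟩, hc ⟨j, hj⟩⟩) ?_
  · rintro j ⟨j', h1, h2⟩
    refine ⟨P'.reflectionPerm j' j', ?_, fun x ↦ ?_⟩
    · simp [h1]
    · have := h2 x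
      simp only [RootPairing.coroot', LinearMap.flip_apply] at this ⊢
      simp [this]
  · rintro j k ⟨j', h1, h2⟩ hk
    have hk1 : f (P.root k) = P'.root (u ⟨k, hk⟩) := hf ⟨k, hk⟩
    have hk2 := hc ⟨k, hk⟩
    refine ⟨P'.reflectionPerm (u ⟨k, hk⟩) j', ?_, fun x ↦ ?_⟩
    · rw [P.root_reflectionPerm, P'.root_reflectionPerm, P.reflection_apply, P'.reflection_apply,
        map_sub, map_smul, h1, hk1, ← hk2, h1]
    · have e1 := coroot'_smul (refl P k) j (P.reflection k x)
      have e2 := coroot'_smul (refl P' (u ⟨k, hk⟩)) j' (f (P.reflection k x))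
      rw [refl_smul, refl_smul_weight, ← P.reflection_apply, RootPairing.reflection_same] at e1
      rw [refl_smul, refl_smul_weight, ← P'.reflection_apply] at e2
      rw [e1, ← h2, ← e2]
      congr 1
      rw [P.reflection_apply, map_sub, map_smul, hk1, ← hk2, P'.reflection_apply, map_sub, map_smul,
        P'.root_coroot'_eq_pairing, P'.pairing_same]
      module

/-- The isomorphism of root pairings given by matched bases. -/
noncomputable def equivOfIndex (f : M ≃ₗ[ℤ] M') (e : ι ≃ ι')
    (hf : ∀ i, f (P.root i) = P'.root (e i))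
    (hc : ∀ (i : ι) (x : M), P'.coroot' (e i) (f x) = P.coroot' i x) : RootPairing.Equiv P P' where
  weightMap := f
  coweightMap := (P'.flip.toPerfPair.trans (f.dualMap.trans P.flip.toPerfPair.symm)).toLinearMap
  indexEquiv := e
  weight_coweight_transpose := by ext; simp
  root_weightMap := by ext; simp [hf]
  coroot_coweightMap := by
    ext j'
    obtain ⟨j, rfl⟩ := e.surjective j'
    simp only [Function.comp_apply, LinearEquiv.coe_coe, LinearEquiv.trans_apply, Equiv.symm_apply_apply]
    rw [LinearEquiv.symm_apply_eq]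
    ext x
    rw [LinearEquiv.dualMap_apply, toPerfPair_flip_apply, toPerfPair_flip_apply]
    exact hc j x
  bijective_weightMap := f.bijective
  bijective_coweightMap := LinearEquiv.bijective _

lemma equiv_ext {e e' : RootPairing.Equiv P P'} (h : ∀ x, e.weightMap x = e'.weightMap x) : e = e' := by
  have h1 : e.weightMap = e'.weightMap := LinearMap.ext h
  have h2 : e.coweightMap = e'.coweightMap := LinearMap.ext fun n ↦ P.flip.toPerfPair.injective (by
    rw [← RootPairing.Hom.weight_coweight_transpose_apply, ← RootPairing.Hom.weight_coweight_transpose_apply, h1])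
  have h3 : e.indexEquiv = e'.indexEquiv := Equiv.ext fun i ↦ P'.root.injective (by
    rw [← RootPairing.Hom.root_weightMap_apply, ← RootPairing.Hom.root_weightMap_apply, h1])
  cases e with
  | mk a _ _ => cases e' with
    | mk a' _ _ =>
      obtain rfl : a = a' := RootPairing.Hom.ext h1 h2 h3
      rfl

/-- The basis given by simple roots of an adjoint root datum. -/
noncomputable def basisOfBase (b : P.Base) (h : Submodule.span ℤ (range P.root) = ⊤) :
    Basis b.support ℤ M :=
  Basis.mk b.linearIndepOn_root.linearIndependent (by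
    refine le_of_eq ?_
    rw [← h, ← b.span_int_root_support, Set.image_eq_range])

@[simp] lemma basisOfBase_apply (b : P.Base) (h : Submodule.span ℤ (range P.root) = ⊤) (i : b.support) :
    basisOfBase b h i = P.root i := by simp [basisOfBase]

end Groth.RootData
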