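import Groth.Agent.RootData.IntDatum

/-!
Closed sets containing a positive system, and partitions into orthogonal parts.
-/

open Set Module
open scoped Pointwise

namespace Groth.RootData

open RootD

set_option linter.unusedSectionVars false

variable {ι R M N : Type*} [CommRing R] [AddCommGroup M] [Module R M] [AddCommGroup N] [Module R N]
  {P : RootPairing ι R M N} [CharZero R] [IsDomain R] [P.IsCrystallographic] [Finite ι]

lemma below_summand {S : Set ι} {i j k : ι} (hj : j ∈ S) (h : P.root k = P.root i + P.root j) :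
    Below P S i k :=
  ⟨{j}, by simp, by simp [hj], by simp [h]⟩

/-- Induction on positive roots: simple roots, and sums of two positive roots. -/
lemma pos_induction {S : Set ι} (hS : IsPosSys P S) {p : ι → Prop}
    (h₁ : ∀ k ∈ simpleOf P S, p k)
    (h₂ : ∀ i ∈ S, ∀ j ∈ S, ∀ k ∈ S, P.root k = P.root i + P.root j → p i → p j → p k)
    {k : ι} (hk : k ∈ S) : p k := by
  induction k using (wellFounded_below hS).induction with
  | _ k ih =>
    by_cases hks : k ∈ simpleOf P S
    · exact h₁ k hks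
    · simp only [simpleOf, mem_setOf_eq, not_and, not_forall, not_not] at hks
      obtain ⟨i, hi, j, hj, hij⟩ := hks hk
      exact h₂ i hi j hj k hk hij (ih i (below_summand hj hij) hi)
        (ih j (below_summand hi (by rw [hij, add_comm])) hj)

lemma closed_superset_eq {S P' : Set ι} {Δ : Set ι} (hS : IsPosSys P S) (hΔ : IsSimpleSys P Δ)
    (hΔS : Δ ⊆ S) (hcl : IsClosedSub P P') (hSP : S ⊆ P') :
    P' = S ∪ {k | -P.root k ∈ natSpan P {i | i ∈ Δ ∧ neg P i ∈ P'}} := by
  ext k
  refine ⟨fun hk ↦ ?_, ?_⟩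
  · rcases hS.cover k with h | h
    · exact .inl h
    refine .inr ?_
    simp only [mem_setOf_eq, ← root_neg]
    have : ∀ m ∈ S, neg P m ∈ P' → P.root m ∈ natSpan P {i | i ∈ Δ ∧ neg P i ∈ P'} := fun m hm ↦ by
      refine pos_induction hS (p := fun m ↦ neg P m ∈ P' → P.root m ∈ _)
        (fun m hm hn ↦ root_mem_natSpan (S := {i | i ∈ Δ ∧ neg P i ∈ P'})
          ⟨(subset_iff_eq_simpleOf hΔ hS hΔS).symm ▸ hm, hn⟩)
        (fun i hi j hj m _ he hpi hpj hn ↦ ?_) hm
      · rw [he]
        refine add_mem (hpi (hcl hn (hSP hj) ?_)) (hpj (hcl hn (hSP hi) ?_))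
        · rw [root_neg, root_neg, he]; abel
        · rw [root_neg, root_neg, he]; abel
    exact this _ h (by rwa [neg_neg])
  · rintro (h | h)
    · exact hSP h
    · refine mem_of_mem_natSpan hcl ?_
      simp only [mem_setOf_eq] at h
      obtain ⟨s, hs, hsk⟩ := exists_multiset_of_mem_natSpan h
      rw [← _root_.neg_neg (P.root k), ← hsk]
      have : -(s.map P.root).sum = ((s.map (neg P)).map P.root).sum := by
        rw [Multiset.map_map, ← Multiset.sum_map_neg', Multiset.map_map]
        congr 1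
        exact Multiset.map_congr rfl fun a _ ↦ (root_neg (P := P) a).symm
      rw [this]
      refine multiset_sum_mem_natSpan fun a ha ↦ ?_
      obtain ⟨b, hb, rfl⟩ := Multiset.mem_map.mp ha
      exact (hs b hb).2

lemma part_sum {R' : Set ι} (hc : IsClosedSub P R') (hs : IsSymmSub P R')
    (hc' : IsClosedSub P R'ᶜ) (hs' : IsSymmSub P R'ᶜ) {i j k : ι}
    (h : P.root k = P.root i + P.root j) : (i ∈ R' ↔ k ∈ R') ∧ (j ∈ R' ↔ k ∈ R') := by
  have h1 : P.root j = P.root k + P.root (neg P i) := by rw [root_neg, h]; abel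
  have h2 : P.root i = P.root k + P.root (neg P j) := by rw [root_neg, h]; abel
  have hij : i ∈ R' ↔ j ∈ R' := by
    refine ⟨fun hi ↦ ?_, fun hj ↦ ?_⟩
    · by_contra hj
      by_cases hk : k ∈ R'
      · exact hj (hc hk (hs hi) h1)
      · exact hc' (mem_compl hk) (hs' (mem_compl hj)) h2 hi
    · by_contra hi
      by_cases hk : k ∈ R'
      · exact hi (hc hk (hs hj) h2)
      · exact hc' (mem_compl hk) (hs' (mem_compl hi)) h1 hj
  by_cases hi : i ∈ R'
  · exact ⟨iff_of_true hi (hc hi (hij.mp hi) h), iff_of_true (hij.mp hi) (hc hi (hij.mp hi) h)⟩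
  · have hj := fun e ↦ hi (hij.mpr e)
    exact ⟨iff_of_false hi (hc' (mem_compl hi) (mem_compl hj) h),
      iff_of_false hj (hc' (mem_compl hi) (mem_compl hj) h)⟩

lemma isOrthogonal_iff {i j : ι} : P.IsOrthogonal i j ↔ pI P i j = 0 ∧ pI P j i = 0 := by
  simp [RootPairing.IsOrthogonal, ← P.algebraMap_pairingIn ℤ]

lemma pI_eq_zero_symm {i j : ι} (h : pI P i j = 0) : pI P j i = 0 := by
  have : Fintype ι := Fintype.ofFinite ι
  have h1 := two_mul_formInt (P := P) i j
  have h2 := two_mul_formInt (P := P) j i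
  rw [h, zero_mul] at h1
  rw [formInt_comm] at h2
  have := formInt_self_pos (P := P) i
  nlinarith

lemma not_isOrthogonal_iff {i j : ι} : ¬ P.IsOrthogonal i j ↔ pI P i j ≠ 0 := by
  rw [isOrthogonal_iff]
  exact ⟨fun h e ↦ h ⟨e, pI_eq_zero_symm e⟩, fun h e ↦ h e.1⟩

lemma part_not_orth {R' : Set ι} (hc : IsClosedSub P R') (hs : IsSymmSub P R')
    (hc' : IsClosedSub P R'ᶜ) (hs' : IsSymmSub P R'ᶜ) {i j : ι} (hi : i ∈ R')
    (hij : ¬ P.IsOrthogonal i j) : j ∈ R' := by
  rcases lt_or_gt_of_ne (not_isOrthogonal_iff.mp hij) with h | h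
  · by_cases e : i = neg P j
    · have := hs hi
      rwa [e, show P.reflectionPerm (neg P j) (neg P j) = j from neg_neg j] at this
    · obtain ⟨k, hk⟩ := root_add_mem h e
      obtain ⟨h1, h2⟩ := part_sum hc hs hc' hs' hk
      exact h2.mpr (h1.mp hi)
  · by_cases e : i = j
    · exact e ▸ hi
    · obtain ⟨k, hk⟩ := root_sub_mem h e
      obtain ⟨-, h2⟩ := part_sum hc hs hc' hs' (i := k) (j := j) (k := i) (by rw [hk]; abel)
      exact h2.mpr hi

lemma reflTransGen_symm {i j : ι}
    (h : Relation.ReflTransGen (fun a b : ι => ¬ P.IsOrthogonal a b) i j) :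
    Relation.ReflTransGen (fun a b : ι => ¬ P.IsOrthogonal a b) j i := by
  induction h with
  | refl => exact .refl
  | tail _ h ih => exact Relation.ReflTransGen.head (fun e ↦ h e.symm) ih

lemma component_closed (i : ι) :
    let C := {j : ι | Relation.ReflTransGen (fun a b : ι => ¬ P.IsOrthogonal a b) i j}
    IsClosedSub P C ∧ IsSymmSub P C ∧ IsClosedSub P Cᶜ ∧ IsSymmSub P Cᶜ := by
  intro C
  have key : ∀ a b c : ι, P.root c = P.root a + P.root b → ¬ P.IsOrthogonal a c ∨ ¬ P.IsOrthogonal b c := by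
    intro a b c h
    simp only [not_isOrthogonal_iff]
    have := pI_add c h
    rw [pI_same] at this
    omega
  have hneg : ∀ a : ι, ¬ P.IsOrthogonal a (P.reflectionPerm a a) := fun a ↦
    not_isOrthogonal_iff.mpr (by rw [pI_neg_right, pI_same]; omega)
  refine ⟨fun a b c ha hb h ↦ ?_, fun a ha ↦ ha.tail (hneg a), fun a b c ha hb h hc ↦ ?_,
    fun a ha h ↦ ha (h.tail fun e ↦ hneg a e.symm)⟩
  · rcases key a b c h with e | e
    · exact ha.tail e
    · exact hb.tail e
  · rcases key a b c h with e | e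
    · exact ha (hc.tail fun x ↦ e x.symm)
    · exact hb (hc.tail fun x ↦ e x.symm)

/-- Every root is non-orthogonal to some simple root. -/
lemma exists_simple_not_orth {Δ : Set ι} (hΔ : IsSimpleSys P Δ) (k : ι) :
    ∃ i ∈ Δ, ¬ P.IsOrthogonal i k := by
  suffices ∀ m ∈ posOf P Δ, ∃ i ∈ Δ, pI P i m ≠ 0 by
    rcases (IsSimpleSys.isPosSys hΔ).cover k with h | h
    · obtain ⟨i, hi, e⟩ := this k h
      exact ⟨i, hi, not_isOrthogonal_iff.mpr e⟩
    · obtain ⟨i, hi, e⟩ := this _ h
      exact ⟨i, hi, not_isOrthogonal_iff.mpr (by rw [pI_neg_right] at e; omega)⟩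
  intro m hm
  obtain ⟨s, hs, hsm⟩ := exists_multiset_of_mem_natSpan hm
  obtain ⟨a, ha, hpos⟩ := exists_mem_pairing_pos (P := P) (k := m) one_pos (by rw [hsm, one_zsmul])
  exact ⟨a, hs a ha, hpos.ne'⟩

/-- A root combination of two disjoint subsets of an independent set vanishes. -/
lemma span_disjoint {Δ A B : Set ι} (hΔ : LinearIndepOn ℤ P.root Δ) (hA : A ⊆ Δ) (hB : B ⊆ Δ)
    (hAB : Disjoint A B) {x : M} (hxA : x ∈ Submodule.span ℤ (P.root '' A))
    (hxB : x ∈ Submodule.span ℤ (P.root '' B)) : x = 0 := by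
  have h : Disjoint (Submodule.span ℤ (P.root '' A)) (Submodule.span ℤ (P.root '' B)) :=
    ((linearIndepOn_union_iff hAB).mp (hΔ.mono (union_subset hA hB))).2.2
  exact Submodule.disjoint_def.mp h x hxA hxB

end Groth.RootData
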