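import Groth.Agent.RootData.Height
import Mathlib.LinearAlgebra.QuadraticForm.Basic
import Mathlib.LinearAlgebra.Projection

/-!
Quadratic forms on coweights invariant under reflections.
-/

open Set Module

namespace Groth.RootData

set_option linter.unusedSectionVars false

variable {ι R M N : Type*} [CommRing R] [IsDomain R] [CharZero R] [AddCommGroup M] [Module R M]
  [AddCommGroup N] [Module R N] {P : RootPairing ι R M N}

lemma Q_coreflection (Q : QuadraticMap R N R) (j : ι) (y : N) :
    Q (P.coreflection j y) = Q y +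
      P.root' j y * (P.root' j y * Q (P.coroot j) - QuadraticMap.polar Q y (P.coroot j)) := by
  rw [P.coreflection_apply, sub_eq_add_neg, QuadraticMap.map_add Q y (-(P.root' j y • P.coroot j)),
    QuadraticMap.map_neg, QuadraticMap.map_smul, ← neg_smul, QuadraticMap.polar_smul_right]
  simp only [smul_eq_mul]
  ring

/-- Invariance under one reflection on a submodule containing the coroot. -/
lemma invariant_iff (Q : QuadraticMap R N R) (j : ι) {D : Submodule R N} (hj : P.coroot j ∈ D) :
    (∀ y ∈ D, Q (P.coreflection j y) = Q y) ↔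
      ∀ y ∈ D, QuadraticMap.polar Q y (P.coroot j) = P.root' j y * Q (P.coroot j) := by
  constructor
  · intro h
    have key : ∀ y ∈ D, P.root' j y * (P.root' j y * Q (P.coroot j) - QuadraticMap.polar Q y (P.coroot j)) = 0 := by
      intro y hy
      have := h y hy
      rwa [Q_coreflection, add_eq_left] at this
    intro y hy
    have hl : P.root' j (P.coroot j) = 2 := P.root_coroot_two j
    -- evaluate at `y`, at the coroot and at their sum
    have h1 := key y hy
    have h2 := key _ hj
    have h3 := key (y + P.coroot j) (add_mem hy hj)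
    rw [map_add, hl, QuadraticMap.polar_add_left] at h3
    rw [hl] at h2
    by_cases h0 : P.root' j y = 0
    · rw [h0] at h3 ⊢
      have h4 : (2 : R) * QuadraticMap.polar Q y (P.coroot j) = 0 := by linear_combination h2 - h3
      simpa using (mul_eq_zero.mp h4).resolve_left two_ne_zero
    · have := (mul_eq_zero.mp h1).resolve_left h0
      linear_combination -this
  · intro h y hy
    rw [Q_coreflection, h y hy, sub_self, mul_zero, add_zero]

lemma invariant_iff_univ (Q : QuadraticMap R N R) (j : ι) :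
    (∀ y : N, Q (P.coreflection j y) = Q y) ↔
      ∀ y : N, QuadraticMap.polar Q y (P.coroot j) = P.root' j y * Q (P.coroot j) := by
  have := invariant_iff (P := P) Q j (D := ⊤) trivial
  simpa using this

section Extend

variable {D Y₀ : Submodule R N} (hc : IsCompl Y₀ D)

/-- Glue a form on the complement, a cross term and a form on `D`. -/
noncomputable def glue (hc : IsCompl Y₀ D) (q : QuadraticMap R Y₀ R) (Φ : N →ₗ[R] N →ₗ[R] R)
    (Qd : QuadraticMap R N R) : QuadraticMap R N R :=
  q.comp (Y₀.projectionOnto D hc) +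
    LinearMap.BilinMap.toQuadraticMap
      (Φ.compl₁₂ (Y₀.subtype ∘ₗ Y₀.projectionOnto D hc) (D.subtype ∘ₗ D.projectionOnto Y₀ hc.symm)) +
    Qd.comp (D.subtype ∘ₗ D.projectionOnto Y₀ hc.symm)

lemma glue_apply_add (q : QuadraticMap R Y₀ R) (Φ : N →ₗ[R] N →ₗ[R] R) (Qd : QuadraticMap R N R)
    (a : Y₀) (d : D) : glue hc q Φ Qd (a + d) = q a + Φ a d + Qd d := by
  simp [glue, LinearMap.BilinMap.toQuadraticMap_apply, Submodule.projectionOnto_apply_left, Submodule.projectionOnto_apply_right]

lemma exists_decomp (hc : IsCompl Y₀ D) (y : N) : ∃ (a : Y₀) (d : D), y = a + d := by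
  obtain ⟨a, d, h, -⟩ := Submodule.existsUnique_add_of_isCompl hc y
  exact ⟨a, d, h.symm⟩

lemma glue_invariant (hD : ∀ i : ι, P.coroot i ∈ D) (q : QuadraticMap R Y₀ R)
    (Φ : N →ₗ[R] N →ₗ[R] R) (Qd : QuadraticMap R N R)
    (hQd : ∀ i : ι, ∀ y ∈ D, Qd (P.coreflection i y) = Qd y)
    (hΦ : ∀ y₀ ∈ Y₀, ∀ i : ι, Φ y₀ (P.coroot i) = P.root' i y₀ * Qd (P.coroot i)) (i : ι) (y : N) :
    glue hc q Φ Qd (P.coreflection i y) = glue hc q Φ Qd y := by
  revert y
  rw [invariant_iff_univ]
  intro y
  obtain ⟨a, d, rfl⟩ := exists_decomp hc y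
  have h1 : glue hc q Φ Qd (P.coroot i) = Qd (P.coroot i) := by
    have := glue_apply_add hc q Φ Qd 0 ⟨_, hD i⟩
    simpa using this
  have h2 : glue hc q Φ Qd ((a : N) + d + P.coroot i) = q a + Φ a ((d : N) + P.coroot i) + Qd ((d : N) + P.coroot i) := by
    have := glue_apply_add hc q Φ Qd a (d + ⟨_, hD i⟩)
    simpa [add_assoc] using this
  have h3 := (invariant_iff Qd i (hD i)).mp (hQd i) d d.2
  rw [QuadraticMap.polar, h1, h2, glue_apply_add, map_add, hΦ a a.2 i]
  rw [QuadraticMap.polar] at h3
  rw [map_add (P.root' i)]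
  linear_combination h3

lemma glue_eq_on (q : QuadraticMap R Y₀ R) (Φ : N →ₗ[R] N →ₗ[R] R) (Qd : QuadraticMap R N R) :
    ∀ y ∈ D, glue hc q Φ Qd y = Qd y := fun y hy ↦ by
  simpa using glue_apply_add hc q Φ Qd 0 ⟨y, hy⟩

end Extend

end Groth.RootData
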