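import Groth.Agent.RootData.IntDatum
import Groth.Agent.RootData.Height
import Mathlib.LinearAlgebra.FreeModule.PID
import Mathlib.LinearAlgebra.FreeModule.Finite.Matrix
import Mathlib.GroupTheory.FiniteAbelian.Basic
import Mathlib.LinearAlgebra.Dimension.RankNullity
import Mathlib.LinearAlgebra.Dimension.Localization
import Mathlib.LinearAlgebra.Dimension.Torsion.Finite

/-!
Ranks of the radical and coradical of a root datum; semisimple data.
-/

open Set Module

namespace Groth.RootData

open RootD

set_option linter.unusedSectionVars false

variable {ι M N : Type*} [AddCommGroup M] [AddCommGroup N] {P : RootPairing ι ℤ M N} [Finite ι]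
  [Module.Finite ℤ M] [Module.Finite ℤ N]

lemma coradical_rank :
    Module.finrank ℤ (⨅ i : ι, LinearMap.ker (P.coroot' i) : Submodule ℤ M) +
      Module.finrank ℤ (Submodule.span ℤ (Set.range P.root)) = Module.finrank ℤ M := by
  have : Fintype ι := Fintype.ofFinite ι
  set L := Submodule.span ℤ (Set.range P.root)
  let T : M →ₗ[ℤ] M := P.CoPolarization ∘ₗ P.Polarization
  have hker : LinearMap.ker T = ⨅ i : ι, LinearMap.ker (P.coroot' i) := by
    ext x
    simp only [LinearMap.mem_ker, Submodule.mem_iInf]
    refine ⟨fun h i ↦ ?_, fun h ↦ ?_⟩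
    · have hx : P.RootForm x x = 0 := by
        have h1 : P.CorootForm (P.Polarization x) (P.Polarization x) = 0 := by
          rw [← P.toLinearMap_apply_CoPolarization]
          change P.toLinearMap (T x) _ = 0
          rw [h, map_zero, LinearMap.zero_apply]
        rw [RootPairing.corootForm_apply_apply] at h1
        have h2 : ∀ j, P.root' j (P.Polarization x) = 0 := fun j ↦ by
          have := (Finset.sum_eq_zero_iff_of_nonneg fun k _ ↦ mul_self_nonneg _).mp h1 j (Finset.mem_univ j)
          exact mul_self_eq_zero.mp this
        have h3 : P.Polarization x = 0 := by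
          refine eq_zero_of_forall_coroot' (P := P.flip) ?_ h2
          rw [RootPairing.Polarization_apply]
          exact sum_mem fun j _ ↦ Submodule.smul_mem _ _ (Submodule.subset_span (mem_range_self j))
        rw [← P.toLinearMap_apply_apply_Polarization, h3, map_zero]
      rw [RootPairing.rootForm_apply_apply] at hx
      exact mul_self_eq_zero.mp
        ((Finset.sum_eq_zero_iff_of_nonneg fun k _ ↦ mul_self_nonneg _).mp hx i (Finset.mem_univ i))
    · have : P.Polarization x = 0 := by
        rw [RootPairing.Polarization_apply]
        exact Finset.sum_eq_zero fun i _ ↦ by rw [h i, zero_smul]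
      simp [T, this]
  have hrange : finrank ℤ (LinearMap.range T) = finrank ℤ L := by
    refine le_antisymm (Submodule.finrank_mono ?_) ?_
    · rintro _ ⟨x, rfl⟩
      simp only [T, LinearMap.comp_apply, RootPairing.CoPolarization_apply]
      exact sum_mem fun j _ ↦ Submodule.smul_mem _ _ (Submodule.subset_span (mem_range_self j))
    · have hinj : Function.Injective (T.rangeRestrict.comp L.subtype) := by
        rw [injective_iff_map_eq_zero]
        intro x hx
        have : (x : M) ∈ LinearMap.ker T := congrArg Subtype.val hx
        rw [hker, Submodule.mem_iInf] at this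
        exact Subtype.ext (eq_zero_of_forall_coroot' x.2 this)
      exact LinearMap.finrank_le_finrank_of_injective hinj
  have := Submodule.finrank_quotient_add_finrank (LinearMap.ker T)
  rw [T.quotKerEquivRange.finrank_eq, hrange, hker, add_comm] at this
  exact this

lemma finrank_eq_coweight (P : RootPairing ι ℤ M N) :
    finrank ℤ M = finrank ℤ N := by
  have hM : Module.IsReflexive ℤ M := .of_isPerfPair P.toLinearMap
  have hN : Module.IsReflexive ℤ N := .of_isPerfPair P.flip.toLinearMap
  have : Module.Free ℤ N := Module.free_of_finite_type_torsion_free'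
  rw [P.toLinearMap.toPerfPair.finrank_eq]
  exact (LinearEquiv.finrank_eq (Module.Free.chooseBasis ℤ N).toDualEquiv).symm

lemma finrank_span_coroot (P : RootPairing ι ℤ M N) :
    finrank ℤ (Submodule.span ℤ (Set.range P.coroot)) = finrank ℤ (Submodule.span ℤ (Set.range P.root)) := by
  have : Fintype ι := Fintype.ofFinite ι
  exact P.finrank_corootSpan_eq'

lemma radical_rank :
    Module.finrank ℤ (⨅ i : ι, LinearMap.ker (P.root' i) : Submodule ℤ N) +
      Module.finrank ℤ (Submodule.span ℤ (Set.range P.root)) = Module.finrank ℤ M := by
  rw [← finrank_span_coroot P, finrank_eq_coweight P]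
  exact coradical_rank (P := P.flip)

lemma eq_bot_iff_finrank {V : Type*} [AddCommGroup V] [Module.Finite ℤ V] [Module.IsTorsionFree ℤ V]
    (W : Submodule ℤ V) : W = ⊥ ↔ finrank ℤ W = 0 := by
  have : Module.Free ℤ V := Module.free_of_finite_type_torsion_free'
  rw [Submodule.finrank_eq_zero]

lemma semisimple_iff_coradical :
    Module.finrank ℤ (Submodule.span ℤ (Set.range P.root)) = Module.finrank ℤ M ↔
      (⨅ i : ι, LinearMap.ker (P.coroot' i) : Submodule ℤ M) = ⊥ := by
  have hM : Module.IsReflexive ℤ M := .of_isPerfPair P.toLinearMap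
  rw [eq_bot_iff_finrank]
  have := coradical_rank (P := P)
  omega

lemma semisimple_iff_radical :
    Module.finrank ℤ (Submodule.span ℤ (Set.range P.root)) = Module.finrank ℤ M ↔
      (⨅ i : ι, LinearMap.ker (P.root' i) : Submodule ℤ N) = ⊥ := by
  have hN : Module.IsReflexive ℤ N := .of_isPerfPair P.flip.toLinearMap
  rw [eq_bot_iff_finrank]
  have := radical_rank (P := P)
  omega

lemma finite_quotient_of_span_le (hss : Module.finrank ℤ (Submodule.span ℤ (Set.range P.root)) = Module.finrank ℤ M)
    {W : Submodule ℤ M} (hW : Submodule.span ℤ (Set.range P.root) ≤ W) : Finite (M ⧸ W) := by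
  have h1 := Submodule.finrank_quotient_add_finrank W
  have h2 : finrank ℤ W ≤ finrank ℤ M := Submodule.finrank_le W
  have h3 := Submodule.finrank_mono hW
  exact Module.finite_of_fg_torsion _ (Module.finrank_eq_zero_iff_isTorsion.mp (by omega))

end Groth.RootData
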