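import Groth.Agent.RootData.IntDatum

/-!
Subgroups generated by part of the simple reflections; pairs of roots.
-/

open Set Module
open scoped Pointwise

namespace Groth.RootData

open RootD

set_option linter.unusedSectionVars false

variable {ι R M N : Type*} [CommRing R] [AddCommGroup M] [Module R M] [AddCommGroup N] [Module R N]
  {P : RootPairing ι R M N} [CharZero R] [IsDomain R] [P.IsCrystallographic] [Finite ι]

/-- Induction along reduced words in part of the simple reflections. -/
lemma weyl_induction_sub {Δ T : Set ι} (hΔ : IsSimpleSys P Δ) (hT : T ⊆ Δ) {p : P.Aut → Prop}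
    (one : p 1)
    (step : ∀ g ∈ Subgroup.closure (refl P '' T), ∀ i ∈ T, g • i ∈ posOf P Δ → p g → p (g * refl P i))
    {g : P.Aut} (hg : g ∈ Subgroup.closure (refl P '' T)) : p g := by
  obtain ⟨l₀, hl₀, he⟩ := exists_word hg
  clear hg
  induction hn : l₀.length using Nat.strong_induction_on generalizing g l₀ with
  | _ n ih =>
    by_cases hshort : ∃ l : List ι, (∀ a ∈ l, a ∈ T) ∧ word P l = g ∧ l.length < n
    · obtain ⟨l, hl, hlg, hlt⟩ := hshort
      exact ih _ hlt l hl hlg.symm rfl
    push Not at hshort
    rcases List.eq_nil_or_concat' l₀ with rfl | ⟨t, i, rfl⟩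
    · simpa [he, word] using one
    have hi : i ∈ T := hl₀ i (by simp)
    have ht : ∀ a ∈ t, a ∈ T := fun a ha ↦ hl₀ a (by simp [ha])
    have hw : word P (t ++ [i]) = word P t * refl P i := by simp [word]
    rw [he, hw]
    refine step _ (word_mem ht) i hi ?_ (ih t.length (by simp [← hn]) t ht rfl rfl)
    by_contra hneg
    obtain ⟨l', h1, h2, h3⟩ := deletion hΔ (hT hi) (fun a ha ↦ hT (ht a ha)) hneg
    have := hshort l' (fun a ha ↦ ht a (h1.subset ha)) (h3.symm.trans (hw.symm.trans he.symm))
    simp [← hn] at this
    omega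

lemma smul_sub_self_mem_span {T : Set ι} {g : P.Aut} (hg : g ∈ Subgroup.closure (refl P '' T)) (x : M) :
    g • x - x ∈ Submodule.span R (P.root '' T) := by
  induction hg using Subgroup.closure_induction'' generalizing x with
  | one => simp
  | mem y hy =>
    obtain ⟨a, ha, rfl⟩ := hy
    rw [refl_smul_weight, sub_sub_cancel_left]
    exact neg_mem (Submodule.smul_mem _ _ (Submodule.subset_span (mem_image_of_mem _ ha)))
  | inv_mem y hy =>
    obtain ⟨a, ha, rfl⟩ := hy
    rw [refl_inv, refl_smul_weight, sub_sub_cancel_left]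
    exact neg_mem (Submodule.smul_mem _ _ (Submodule.subset_span (mem_image_of_mem _ ha)))
  | mul y z _ _ hy hz =>
    rw [mul_smul, show y • z • x - x = (y • z • x - z • x) + (z • x - x) by abel]
    exact add_mem (hy _) (hz x)

/-- An element of the group of two independent roots fixing both is trivial. -/
lemma pair_eq_one_of_fix {i j : ι} (hne : pI P i j * pI P j i ≠ 4) {g : P.Aut}
    (hg : g ∈ Subgroup.closure (refl P '' {i, j})) (hi : g • i = i) (hj : g • j = j) : g = 1 := by
  refine aut_ext fun x ↦ ?_
  rw [one_smul]
  have hx := smul_sub_self_mem_span hg x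
  rw [image_pair] at hx
  obtain ⟨a, b, hab⟩ := Submodule.mem_span_pair.mp hx
  have key : ∀ k : ι, g • k = k → a * (pI P i k : R) + b * (pI P j k : R) = 0 := fun k hk ↦ by
    have h := congrArg (P.coroot' k) hab
    rw [map_add, map_smul, map_smul, coroot'_root, coroot'_root, map_sub] at h
    have h' := coroot'_smul g k x
    rw [hk] at h'
    rw [h', sub_self] at h
    exact h
  have h1 := key i hi
  have h2 := key j hj
  rw [pI_same] at h1 h2
  push_cast at h1 h2
  have hdet : (4 : R) - (pI P i j : R) * (pI P j i : R) ≠ 0 := by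
    have : ((4 - pI P i j * pI P j i : ℤ) : R) ≠ 0 :=
      Int.cast_ne_zero.mpr (by omega)
    push_cast at this
    exact this
  have ha : a = 0 := by
    have : a * ((4 : R) - (pI P i j : R) * (pI P j i : R)) = 0 := by linear_combination 2 * h1 - (pI P j i : R) * h2
    exact (mul_eq_zero.mp this).resolve_right hdet
  have hb : b = 0 := by
    have : b * (2 : R) = 0 := by rw [ha] at h2; linear_combination h2
    exact (mul_eq_zero.mp this).resolve_right two_ne_zero
  rw [ha, hb, zero_smul, zero_smul, add_zero] at hab
  exact sub_eq_zero.mp hab.symm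

lemma refl_ne_one (i : ι) : refl P i ≠ 1 := fun h ↦ by
  have := congrArg (fun g : P.Aut ↦ g • i) h
  simp only [one_smul] at this
  exact neg_ne_self (P := P) i this

end Groth.RootData
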