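import Groth.Agent.RootData.Height
import Mathlib.LinearAlgebra.FreeModule.PID
import Mathlib.RingTheory.Finiteness.Basic

/-!
Saturated sets of roots (traces of subspaces) and systems of simple roots adapted to them.
-/

open Set Module

namespace Groth.RootData

open RootD

set_option linter.unusedSectionVars false

/-- A functional not vanishing on finitely many non-zero vectors of a free abelian group. -/
lemma exists_linearMap_ne_zero {V : Type*} [AddCommGroup V] [Module.Free ℤ V] (s : Finset V) :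
    ∃ f : V →ₗ[ℤ] ℤ, ∀ v ∈ s, v ≠ 0 → f v ≠ 0 := by
  classical
  induction s using Finset.induction with
  | empty => exact ⟨0, by simp⟩
  | insert v s hv ih =>
    obtain ⟨f, hf⟩ := ih
    by_cases hfv : v = 0 ∨ f v ≠ 0
    · refine ⟨f, fun w hw h0 ↦ ?_⟩
      rcases Finset.mem_insert.mp hw with rfl | hw
      · exact hfv.resolve_left h0
      · exact hf w hw h0
    push Not at hfv
    let b := Module.Free.chooseBasis ℤ V
    obtain ⟨j, hj⟩ : ∃ j, b.repr v j ≠ 0 := by
      by_contra! h
      exact hfv.1 (b.repr.map_eq_zero_iff.mp (Finsupp.ext h))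
    set t : ℤ := 1 + ∑ w ∈ s, |b.repr w j| with ht
    refine ⟨t • f + b.coord j, fun w hw h0 ↦ ?_⟩
    simp only [LinearMap.add_apply, LinearMap.smul_apply, Basis.coord_apply, smul_eq_mul]
    rcases Finset.mem_insert.mp hw with rfl | hw
    · simpa [hfv.2] using hj
    intro h
    have hb : |b.repr w j| < t := by
      have := Finset.single_le_sum (f := fun w ↦ |b.repr w j|) (fun _ _ ↦ abs_nonneg _) hw
      omega
    have := hf w hw h0
    have h1 : 1 ≤ |f w| := abs_pos.mpr this
    have h2 : |b.repr w j| = |t| * |f w| := by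
      rw [← abs_mul, eq_neg_of_add_eq_zero_left h, abs_neg]
    have : 0 < t := by
      have := Finset.sum_nonneg (s := s) (fun w _ ↦ abs_nonneg (b.repr w j))
      omega
    rw [abs_of_pos this] at h2
    nlinarith

variable {ι M N : Type*} [AddCommGroup M] [AddCommGroup N] {P : RootPairing ι ℤ M N} [Finite ι]

/-- `R'` is the trace of a subspace. -/
def IsSat (P : RootPairing ι ℤ M N) (R' : Set ι) : Prop :=
  ∀ k : ι, (∃ n : ℕ, 0 < n ∧ n • P.root k ∈ Submodule.span ℤ (P.root '' R')) → k ∈ R'

lemma IsSat.mem {R' : Set ι} (h : IsSat P R') {k : ι}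
    (hk : P.root k ∈ Submodule.span ℤ (P.root '' R')) : k ∈ R' :=
  h k ⟨1, one_pos, by rwa [one_nsmul]⟩

/-- An additive function on roots vanishing exactly on a saturated set. -/
lemma exists_functional {R' : Set ι} (h : IsSat P R') :
    ∃ f : ι → ℤ, (∀ i j k, P.root k = P.root i + P.root j → f k = f i + f j) ∧
      (∀ k, f (neg P k) = -f k) ∧ (∀ k, f k = 0 ↔ k ∈ R') := by
  classical
  have := isAddTorsionFree_weight P
  let L := Submodule.span ℤ (range P.root)
  have : Module.Finite ℤ L := Module.Finite.span_of_finite ℤ (finite_range P.root)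
  let V : Submodule ℤ L :=
    { carrier := {x | ∃ n : ℕ, 0 < n ∧ n • (x : M) ∈ Submodule.span ℤ (P.root '' R')}
      add_mem' := by
        rintro x y ⟨n, hn, hx⟩ ⟨m, hm, hy⟩
        refine ⟨n * m, Nat.mul_pos hn hm, ?_⟩
        rw [Submodule.coe_add, smul_add]
        refine add_mem ?_ ?_
        · rw [mul_comm, mul_smul]; exact nsmul_mem hx m
        · rw [mul_smul]; exact nsmul_mem hy n
      zero_mem' := ⟨1, one_pos, by simp⟩
      smul_mem' := by
        rintro c x ⟨n, hn, hx⟩
        refine ⟨n, hn, ?_⟩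
        rw [Submodule.coe_smul, smul_comm]
        exact Submodule.smul_mem _ c hx }
  have : Module.IsTorsionFree ℤ (L ⧸ V) := by
    rw [Module.isTorsionFree_iff_smul_eq_zero]
    intro c x
    induction x using Submodule.Quotient.induction_on with
    | _ x =>
      intro hcx
      rw [← Submodule.Quotient.mk_smul, Submodule.Quotient.mk_eq_zero] at hcx
      by_cases hc : c = 0
      · exact .inl hc
      refine .inr ((Submodule.Quotient.mk_eq_zero V).mpr ?_)
      obtain ⟨n, hn, hx⟩ := hcx
      refine ⟨n * c.natAbs, Nat.mul_pos hn (Int.natAbs_pos.mpr hc), ?_⟩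
      rw [Submodule.coe_smul] at hx
      rw [mul_smul, ← natCast_zsmul (x : M) c.natAbs]
      rcases Int.natAbs_eq c with e | e
      · rw [← e]; exact hx
      · rw [e, neg_smul, smul_neg] at hx
        exact neg_mem_iff.mp hx
  have : Module.Free ℤ (L ⧸ V) := Module.free_of_finite_type_torsion_free'
  have : Fintype ι := Fintype.ofFinite ι
  let v : ι → L ⧸ V := fun k ↦ Submodule.Quotient.mk ⟨P.root k, Submodule.subset_span (mem_range_self k)⟩
  obtain ⟨g, hg⟩ := exists_linearMap_ne_zero (Finset.univ.image v)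
  refine ⟨fun k ↦ g (v k), fun i j k hk ↦ ?_, fun k ↦ ?_, fun k ↦ ?_⟩
  · change g (v k) = g (v i) + g (v j)
    rw [← map_add]
    refine congrArg g ?_
    rw [← Submodule.Quotient.mk_add]
    refine congrArg (Submodule.Quotient.mk (p := V)) ?_
    exact Subtype.ext hk
  · change g (v (neg P k)) = -g (v k)
    rw [← map_neg]
    refine congrArg g ?_
    rw [← Submodule.Quotient.mk_neg]
    refine congrArg (Submodule.Quotient.mk (p := V)) ?_
    exact Subtype.ext (root_neg k)
  · constructor
    · intro h0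
      refine h k ?_
      by_contra hk
      exact hg (v k) (Finset.mem_image_of_mem v (Finset.mem_univ k))
        (fun e ↦ hk ((Submodule.Quotient.mk_eq_zero V).mp e)) h0
    · intro hk
      have : v k = 0 := (Submodule.Quotient.mk_eq_zero V).mpr
        ⟨1, one_pos, by rw [one_nsmul]; exact Submodule.subset_span (mem_image_of_mem _ hk)⟩
      show g (v k) = 0
      rw [this, map_zero]

/-- A system of positive roots extending one of a saturated set. -/
lemma exists_extension {R' S' : Set ι} (h : IsSat P R') (hsub : S' ⊆ R')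
    (hd : ∀ i ∈ S', neg P i ∉ S') (hc : ∀ i ∈ R', i ∈ S' ∨ neg P i ∈ S')
    (hcl : IsClosedSub P S') :
    ∃ S, IsPosSys P S ∧ S ∩ R' = S' ∧
      (∀ i ∈ S', (∀ a ∈ S', ∀ b ∈ S', P.root i ≠ P.root a + P.root b) → i ∈ simpleOf P S) ∧
      ∀ k ∈ R', k ∈ inSpan P (simpleOf P S ∩ R') ∧
        (k ∈ S' → P.root k ∈ natSpan P (simpleOf P S ∩ R')) := by
  obtain ⟨f, hadd, hodd, hf⟩ := exists_functional h
  let S : Set ι := {k | 0 < f k} ∪ S'
  have hzero : ∀ k ∈ S', f k = 0 := fun k hk ↦ (hf k).mpr (hsub hk)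
  have hS : IsPosSys P S := by
    refine isPosSys_iff_closed.mpr ⟨?_, fun i ↦ ?_, fun i j k hi hj hk ↦ ?_⟩
    · rintro i (hi | hi) (hni | hni)
      · simp only [mem_setOf_eq, hodd] at hi hni; omega
      · have := hzero _ hni; simp only [mem_setOf_eq] at hi; rw [hodd] at this; omega
      · have := hzero _ hi; simp only [mem_setOf_eq, hodd] at hni; omega
      · exact hd i hi hni
    · rcases lt_trichotomy (f i) 0 with e | e | e
      · exact .inr (.inl (by simp only [mem_setOf_eq, hodd]; omega))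
      · exact (hc i ((hf i).mp e)).imp .inr .inr
      · exact .inl (.inl e)
    · have := hadd i j k hk
      rcases hi with hi | hi <;> rcases hj with hj | hj
      · exact .inl (by simp only [mem_setOf_eq] at *; omega)
      · have := hzero j hj; exact .inl (by simp only [mem_setOf_eq] at *; omega)
      · have := hzero i hi; exact .inl (by simp only [mem_setOf_eq] at *; omega)
      · exact .inr (hcl hi hj hk)
  have hnn : ∀ k ∈ S, 0 ≤ f k := by
    rintro k (hk | hk)
    · exact le_of_lt hk
    · exact (hzero k hk).ge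
  have hinter : S ∩ R' = S' := by
    refine subset_antisymm ?_ fun k hk ↦ ⟨.inr hk, hsub hk⟩
    rintro k ⟨hk | hk, hkR⟩
    · simp [(hf k).mpr hkR] at hk
    · exact hk
  have key : ∀ k ∈ S, f k = 0 → P.root k ∈ natSpan P (simpleOf P S ∩ R') := fun k hk ↦ by
    refine pos_induction hS (p := fun k ↦ f k = 0 → P.root k ∈ natSpan P (simpleOf P S ∩ R'))
      (fun k hk e ↦ root_mem_natSpan (S := simpleOf P S ∩ R') ⟨hk, (hf k).mp e⟩)
      (fun i hi j hj m _ he hpi hpj e ↦ ?_) hk
    have := hadd i j m he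
    have := hnn i hi
    have := hnn j hj
    rw [he]
    exact add_mem (hpi (by omega)) (hpj (by omega))
  refine ⟨S, hS, hinter, fun i hi hind ↦ ⟨.inr hi, fun a ha b hb he ↦ ?_⟩, fun k hk ↦ ⟨?_, ?_⟩⟩
  · have := hadd a b i he
    have := hzero i hi
    have := hnn a ha
    have := hnn b hb
    exact hind a (hinter ▸ ⟨ha, (hf a).mp (by omega)⟩) b (hinter ▸ ⟨hb, (hf b).mp (by omega)⟩) he
  · rcases hc k hk with e | e
    · exact natSpan_le_span_int _ (key k (.inr e) (hzero k e))
    · have := natSpan_le_span_int _ (key _ (.inr e) (hzero _ e))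
      rw [root_neg] at this
      exact neg_mem_iff.mp this
  · exact fun e ↦ key k (.inr e) (hzero k e)

/-- A positive system meets a saturated set in a positive system of it. -/
lemma sat_inter_pos {R' T : Set ι} (h : IsSat P R') (hT : IsPosSys P T) :
    (∀ i ∈ T ∩ R', neg P i ∉ T ∩ R') ∧ (∀ i ∈ R', i ∈ T ∩ R' ∨ neg P i ∈ T ∩ R') ∧
      IsClosedSub P (T ∩ R') := by
  refine ⟨fun i hi hn ↦ hT.disjoint hi.1 hn.1, fun i hi ↦ (hT.cover i).imp (fun e ↦ ⟨e, hi⟩)
    (fun e ↦ ⟨e, h.mem ?_⟩), fun i j k hi hj hk ↦ ⟨IsPosSys.closed hT hi.1 hj.1 hk, h.mem ?_⟩⟩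
  · rw [root_neg]
    exact neg_mem (Submodule.subset_span (mem_image_of_mem _ hi))
  · rw [hk]
    exact add_mem (Submodule.subset_span (mem_image_of_mem _ hi.2))
      (Submodule.subset_span (mem_image_of_mem _ hj.2))

lemma inSpan_eq_of_subset {R' A : Set ι} (h : IsSat P R') (hA : A ⊆ R')
    (hgen : R' ⊆ inSpan P A) : R' = inSpan P A :=
  subset_antisymm hgen fun _ hk ↦ h.mem (Submodule.span_mono (image_mono hA) hk)

/-- Roots in the span of part of a simple system form a saturated set. -/
lemma isSat_inSpan {Δ Δ' : Set ι} (hΔ : IsSimpleSys P Δ) (hsub : Δ' ⊆ Δ) :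
    IsSat P (inSpan P Δ') := by
  classical
  rintro k ⟨n, hn, hk⟩
  have hk' : n • P.root k ∈ Submodule.span ℤ (P.root '' Δ') :=
    (Submodule.span_le.mpr (by rintro _ ⟨i, hi, rfl⟩; exact hi)) hk
  have hkΔ : P.root k ∈ Submodule.span ℤ (P.root '' Δ) := by
    rcases hΔ.mem_or_neg_mem k with e | e
    · exact natSpan_le_span_int _ e
    · exact neg_mem_iff.mp (natSpan_le_span_int _ e)
  obtain ⟨c, hc, hck⟩ := (Finsupp.mem_span_image_iff_linearCombination ℤ).mp hkΔ
  obtain ⟨d, hd, hdk⟩ := (Finsupp.mem_span_image_iff_linearCombination ℤ).mp hk'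
  rw [Finsupp.mem_supported] at hc hd
  have heq := eq_of_linearCombination_eq (linIndepOn_int hΔ.linInd) (c := (n : ℤ) • c) (d := d)
    (fun a ha ↦ hc (Finsupp.support_smul ha)) (hd.trans hsub)
    (by rw [map_smul, hck, hdk, natCast_zsmul])
  refine (Finsupp.mem_span_image_iff_linearCombination ℤ).mpr ⟨c, ?_, hck⟩
  refine (Finsupp.mem_supported _ _).mpr fun a ha ↦ hd (Finsupp.mem_support_iff.mpr ?_)
  rw [← heq, Finsupp.smul_apply, smul_eq_mul]
  exact mul_ne_zero (by omega) (Finsupp.mem_support_iff.mp ha)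

lemma exists_pos_containing {i : ι} (hi : IsIndiv P i) :
    ∃ T, IsPosSys P T ∧ i ∈ simpleOf P T := by
  obtain ⟨S, hS⟩ := exists_isPosSys P
  obtain ⟨g, -, j, hj, rfl⟩ := exists_weyl_smul_simple (isSimpleSys_simpleOf hS) hi
  refine ⟨_, IsPosSys.image g hS, ?_⟩
  rw [simpleOf_image g hS]
  exact mem_image_of_mem _ hj

lemma linearIndependent_pair_ne {i k : ι} (h : LinearIndependent ℤ ![P.root i, P.root k]) :
    k ≠ i ∧ k ≠ neg P i ∧ P.root k ≠ P.root i + P.root i ∧ P.root k ≠ -(P.root i + P.root i) := by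
  refine ⟨fun e ↦ ?_, fun e ↦ ?_, fun e ↦ ?_, fun e ↦ ?_⟩
  · have := LinearIndependent.pair_iff.mp h 1 (-1) (by rw [e]; module); simp at this
  · have := LinearIndependent.pair_iff.mp h 1 1 (by rw [e, root_neg]; module); simp at this
  · have := LinearIndependent.pair_iff.mp h 2 (-1) (by rw [e]; module); simp at this
  · have := LinearIndependent.pair_iff.mp h 2 1 (by rw [e]; module); simp at this

/-- A positive system with a given simple root, containing a given further root. -/
lemma exists_pos_containing_pair {i k : ι} (hi : IsIndiv P i)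
    (h : LinearIndependent ℤ ![P.root i, P.root k]) :
    ∃ T, IsPosSys P T ∧ i ∈ simpleOf P T ∧ k ∈ T := by
  obtain ⟨T, hT, hiT⟩ := exists_pos_containing hi
  obtain ⟨h1, h2, h3, h4⟩ := linearIndependent_pair_ne h
  rcases hT.cover k with e | e
  · exact ⟨T, hT, hiT, e⟩
  -- apply the simple reflection to the opposite system
  have hTn : IsPosSys P {a | neg P a ∈ T} := by
    refine isPosSys_iff_closed.mpr ⟨fun a ha hna ↦ ?_, fun a ↦ ?_, fun a b c ha hb hc ↦ ?_⟩
    · simp only [mem_setOf_eq, neg_neg] at ha hna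
      exact hT.disjoint hna ha
    · simp only [mem_setOf_eq, neg_neg]
      exact (hT.cover a).symm
    · simp only [mem_setOf_eq] at ha hb ⊢
      exact IsPosSys.closed hT ha hb (by rw [root_neg, root_neg, root_neg, hc, neg_add])
  refine ⟨_, IsPosSys.image (refl P i) hTn, ⟨⟨neg P i, ?_, ?_⟩, ?_⟩, ⟨P.reflectionPerm i k, ?_, P.reflectionPerm_self i k⟩⟩
  · simpa [neg_neg] using hiT.1
  · simp only [smul_neg_index, refl_smul_self, neg_neg]
  · rintro _ ⟨a, ha, rfl⟩ _ ⟨b, hb, rfl⟩ he
    refine hiT.2 _ ha _ hb ?_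
    have := congrArg (refl P i • ·) he
    simp only [smul_add, root_smul, smul_smul, refl_mul_self, one_smul] at this
    rw [← root_smul, refl_smul_self, root_neg] at this
    rw [root_neg, root_neg, ← neg_add, ← this, _root_.neg_neg]
  · show neg P (refl P i • k) ∈ T
    rw [← smul_neg_index, refl_smul]
    refine refl_mem_pos hT hiT e (fun x ↦ h2 ?_) (fun x ↦ h4 ?_)
    · rw [← x, neg_neg]
    · rw [← _root_.neg_neg (P.root k), ← root_neg, x]

end Groth.RootData
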