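import Groth.Agent.RootData.Basic

/-!
Simple systems of roots and their relation with systems of positive roots.
-/

open Set Module

namespace Groth.RootData

open RootD

set_option linter.unusedSectionVars false

variable {ι R M N : Type*} [CommRing R] [AddCommGroup M] [Module R M] [AddCommGroup N] [Module R N]
  {P : RootPairing ι R M N}

/-- The roots of `S` that are not a sum of two roots of `S`. -/
def simpleOf (P : RootPairing ι R M N) (S : Set ι) : Set ι :=
  {k | k ∈ S ∧ ∀ i ∈ S, ∀ j ∈ S, P.root k ≠ P.root i + P.root j}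

lemma simpleOf_subset (S : Set ι) : simpleOf P S ⊆ S := fun _ h ↦ h.1

variable [CharZero R] [IsDomain R]

lemma linIndepOn_int {Δ : Set ι} (h : LinearIndepOn R P.root Δ) : LinearIndepOn ℤ P.root Δ :=
  h.restrict_scalars' ℤ

lemma mem_natSpan_exists_int {S : Set ι} {x : M} (h : x ∈ natSpan P S) :
    ∃ c : ι →₀ ℤ, ↑c.support ⊆ S ∧ (∀ i, 0 ≤ c i) ∧ Finsupp.linearCombination ℤ P.root c = x := by
  classical
  induction h using AddSubmonoid.closure_induction with
  | mem x hx =>
    obtain ⟨i, hi, rfl⟩ := hx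
    refine ⟨Finsupp.single i 1, fun a ha ↦ ?_, fun a ↦ ?_, by simp⟩
    · exact Finset.mem_singleton.mp (Finsupp.support_single_subset ha) ▸ hi
    · rw [Finsupp.single_apply]; split_ifs <;> simp
  | zero => exact ⟨0, by simp, by simp, by simp⟩
  | add x y _ _ hx hy =>
    obtain ⟨c, hc, hc0, rfl⟩ := hx
    obtain ⟨d, hd, hd0, rfl⟩ := hy
    exact ⟨c + d, fun a ha ↦ (Finset.mem_union.mp (Finsupp.support_add ha)).elim
      (fun h ↦ hc h) (fun h ↦ hd h), fun a ↦ add_nonneg (hc0 a) (hd0 a), by simp⟩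

lemma linearCombination_mem_natSpan {S : Set ι} {c : ι →₀ ℤ} (hc : ↑c.support ⊆ S)
    (h0 : ∀ i, 0 ≤ c i) : Finsupp.linearCombination ℤ P.root c ∈ natSpan P S := by
  rw [Finsupp.linearCombination_apply, Finsupp.sum]
  refine sum_mem fun a ha ↦ ?_
  rw [← Int.toNat_of_nonneg (h0 a), natCast_zsmul]
  exact nsmul_mem (root_mem_natSpan (hc ha)) _

lemma eq_of_linearCombination_eq {Δ : Set ι} (h : LinearIndepOn ℤ P.root Δ) {c d : ι →₀ ℤ}
    (hc : ↑c.support ⊆ Δ) (hd : ↑d.support ⊆ Δ)
    (he : Finsupp.linearCombination ℤ P.root c = Finsupp.linearCombination ℤ P.root d) : c = d :=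
  linearIndepOn_iffₛ.mp h c ((Finsupp.mem_supported _ _).mpr hc) d
    ((Finsupp.mem_supported _ _).mpr hd) he

/-- Over `ℤ`, a linearly independent set has no nontrivial vanishing nonnegative combination. -/
lemma natSpan_pointed {Δ : Set ι} (h : LinearIndepOn ℤ P.root Δ) {x : M} (hx : x ∈ natSpan P Δ)
    (hx' : -x ∈ natSpan P Δ) : x = 0 := by
  obtain ⟨c, hc, hc0, hcx⟩ := mem_natSpan_exists_int hx
  obtain ⟨d, hd, hd0, hdx⟩ := mem_natSpan_exists_int hx'
  have := eq_of_linearCombination_eq h (c := c + d) (d := 0) ?_ (by simp) (by simp [hcx, hdx])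
  · rw [← hcx]
    have : c = 0 := Finsupp.ext fun a ↦ by
      have := DFunLike.congr_fun this a
      simp at this
      have := hc0 a
      have := hd0 a
      simp only [Finsupp.coe_zero, Pi.zero_apply]
      omega
    simp [this]
  · classical
    exact fun a ha ↦ (Finset.mem_union.mp (Finsupp.support_add ha)).elim
      (fun h ↦ hc h) (fun h ↦ hd h)

variable [P.IsCrystallographic] [Finite ι]

lemma isPosSys_posOf {Δ : Set ι} (hli : LinearIndepOn ℤ P.root Δ)
    (hcov : ∀ i, P.root i ∈ natSpan P Δ ∨ -P.root i ∈ natSpan P Δ) : IsPosSys P (posOf P Δ) := by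
  refine isPosSys_iff_closed.mpr ⟨fun i hi hi' ↦ ?_, fun i ↦ ?_, fun i j k hi hj hk ↦ ?_⟩
  · simp only [posOf, mem_setOf_eq, root_neg] at hi hi'
    exact P.ne_zero i (natSpan_pointed hli hi hi')
  · simp only [posOf, mem_setOf_eq, root_neg]
    exact hcov i
  · simp only [posOf, mem_setOf_eq] at hi hj ⊢
    rw [hk]; exact add_mem hi hj

lemma IsSimpleSys.isPosSys {Δ : Set ι} (h : IsSimpleSys P Δ) : IsPosSys P (posOf P Δ) :=
  isPosSys_posOf (linIndepOn_int h.linInd) h.mem_or_neg_mem

lemma subset_posOf (Δ : Set ι) : Δ ⊆ posOf P Δ := fun _ h ↦ root_mem_natSpan h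

lemma posOf_subset {Δ S : Set ι} (hS : IsClosedSub P S) (h : Δ ⊆ S) : posOf P Δ ⊆ S :=
  fun _ hk ↦ mem_of_mem_natSpan hS (natSpan_mono h hk)

lemma posOf_eq_of_subset {Δ S : Set ι} (hΔ : IsSimpleSys P Δ) (hS : IsPosSys P S) (h : Δ ⊆ S) :
    posOf P Δ = S :=
  IsPosSys.eq_of_subset (IsSimpleSys.isPosSys hΔ) hS (posOf_subset (IsPosSys.closed hS) h)

/-- Every root of a positive system is a sum of roots of `simpleOf`. -/
lemma root_mem_natSpan_simpleOf {S : Set ι} (hS : IsPosSys P S) {k : ι} (hk : k ∈ S) :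
    P.root k ∈ natSpan P (simpleOf P S) := by
  obtain ⟨hd, -, hcl⟩ := isPosSys_iff_closed.mp hS
  induction k using (wellFounded_below hS).induction with
  | _ k ih =>
    by_cases hks : k ∈ simpleOf P S
    · exact root_mem_natSpan hks
    · simp only [simpleOf, mem_setOf_eq, not_and, not_forall, not_not] at hks
      obtain ⟨i, hi, j, hj, hij⟩ := hks hk
      rw [hij]
      exact add_mem (ih i ⟨{j}, by simp, by simp [hj], by simp [hij]⟩ hi)
        (ih j ⟨{i}, by simp, by simp [hi], by simp [hij, add_comm]⟩ hj)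

lemma simpleOf_mem_or_neg_mem {S : Set ι} (hS : IsPosSys P S) (i : ι) :
    P.root i ∈ natSpan P (simpleOf P S) ∨ -P.root i ∈ natSpan P (simpleOf P S) := by
  rcases hS.cover i with h | h
  · exact .inl (root_mem_natSpan_simpleOf hS h)
  · exact .inr (by simpa [root_neg] using root_mem_natSpan_simpleOf hS h)

lemma pI_nonpos_of_mem_simpleOf {S : Set ι} (hS : IsPosSys P S) {a b : ι}
    (ha : a ∈ simpleOf P S) (hb : b ∈ simpleOf P S) (hab : a ≠ b) : pI P a b ≤ 0 := by
  by_contra! h
  obtain ⟨c, hc⟩ := root_sub_mem h hab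
  rcases hS.cover c with hcS | hcS
  · exact ha.2 c hcS b hb.1 (by rw [hc]; abel)
  · exact hb.2 (neg P c) hcS a ha.1 (by rw [root_neg, hc]; abel)

/-- A vector of the root lattice killed by all coroots is zero. -/
lemma eq_zero_of_forall_coroot' {x : M} (hx : x ∈ Submodule.span ℤ (range P.root))
    (h : ∀ k, P.coroot' k x = 0) : x = 0 := by
  have : Fintype ι := Fintype.ofFinite ι
  by_contra hne
  have h2 : (0 : ℤ) < P.RootFormIn ℤ ⟨x, hx⟩ ⟨x, hx⟩ := by
    simpa [RootPairing.posRootForm_eq] using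
      P.posRootForm_posForm_pos_of_ne_zero ℤ (x := ⟨x, hx⟩) (by simpa using hne)
  have h3 := P.algebraMap_rootFormIn ℤ ⟨x, hx⟩ ⟨x, hx⟩
  have h4 : P.RootForm x x = 0 := by
    rw [RootPairing.rootForm_apply_apply]
    exact Finset.sum_eq_zero fun k _ ↦ by rw [h k, zero_mul]
  rw [h4, map_eq_zero_iff _ (algebraMap ℤ R).injective_int] at h3
  omega

/-- The integer valued invariant form on pairs of roots. -/
noncomputable def formInt (P : RootPairing ι R M N) [P.IsCrystallographic] [Fintype ι] (a b : ι) : ℤ :=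
  ∑ k, pI P a k * pI P b k

section Fintype

variable [Fintype ι]

lemma formInt_cast (a b : ι) : (formInt P a b : R) = P.RootForm (P.root a) (P.root b) := by
  rw [RootPairing.rootForm_apply_apply, formInt, Int.cast_sum]
  exact Finset.sum_congr rfl fun k _ ↦ by rw [Int.cast_mul, ← coroot'_root, ← coroot'_root]

lemma formInt_comm (a b : ι) : formInt P a b = formInt P b a :=
  Finset.sum_congr rfl fun _ _ ↦ mul_comm _ _

lemma formInt_self_pos (a : ι) : 0 < formInt P a a := by
  have h : pI P a a * pI P a a ≤ formInt P a a :=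
    Finset.single_le_sum (f := fun k ↦ pI P a k * pI P a k)
      (fun k _ ↦ mul_self_nonneg _) (Finset.mem_univ a)
  rw [pI_same] at h
  omega

lemma two_mul_formInt (a b : ι) : 2 * formInt P a b = pI P a b * formInt P b b := by
  have h := congrArg (P.toLinearMap (P.root a)) (P.rootForm_self_smul_coroot b)
  rw [map_smul, map_nsmul, RootPairing.toLinearMap_apply_apply_Polarization] at h
  have h' : P.RootForm (P.root b) (P.root a) = (formInt P a b : R) := by
    rw [formInt_comm, formInt_cast]
  rw [h', ← formInt_cast, smul_eq_mul, nsmul_eq_mul] at h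
  have h'' : P.toLinearMap (P.root a) (P.coroot b) = (pI P a b : R) := coroot'_root b a
  rw [h''] at h
  have : ((2 * formInt P a b : ℤ) : R) = ((pI P a b * formInt P b b : ℤ) : R) := by
    push_cast; rw [mul_comm ((pI P a b : ℤ) : R)]; exact h.symm
  exact_mod_cast this

lemma formInt_nonpos {a b : ι} (h : pI P a b ≤ 0) : formInt P a b ≤ 0 := by
  have := two_mul_formInt (P := P) a b
  have := formInt_self_pos (P := P) b
  nlinarith

end Fintype

/-- A set of simple roots of a positive system is linearly independent over `ℤ`. -/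
lemma linIndepOn_int_simpleOf {S : Set ι} (hS : IsPosSys P S) :
    LinearIndepOn ℤ P.root (simpleOf P S) := by
  classical
  have : Fintype ι := Fintype.ofFinite ι
  obtain ⟨hd, -, hcl⟩ := isPosSys_iff_closed.mp hS
  refine linearIndepOn_iff.mpr fun c hc hc0 ↦ ?_
  replace hc : ↑c.support ⊆ simpleOf P S := (Finsupp.mem_supported _ _).mp hc
  have hsupp : ∀ a, c a ≠ 0 → a ∈ simpleOf P S := fun a ha ↦ hc (Finsupp.mem_support_iff.mpr ha)
  rw [Finsupp.linearCombination_apply,
    Finsupp.sum_fintype _ _ (fun a ↦ zero_smul ℤ (P.root a))] at hc0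
  set p : ι → ℤ := fun a ↦ max (c a) 0 with hpdef
  set n : ι → ℤ := fun a ↦ max (-c a) 0 with hndef
  have hpn : ∀ a, c a = p a - n a := fun a ↦ by simp only [p, n]; omega
  set v := ∑ a, p a • P.root a with hv
  have hv' : v = ∑ a, n a • P.root a := by
    rw [hv, ← sub_eq_zero, ← Finset.sum_sub_distrib, ← hc0]
    exact Finset.sum_congr rfl fun a _ ↦ by rw [hpn, sub_zsmul]; abel
  have hk : ∀ k, ∑ a, p a * pI P a k = ∑ a, n a * pI P a k := fun k ↦
    sum_pI_eq_of_sum_eq k (hv.symm.trans hv')
  have hsq : ∑ k, (∑ a, p a * pI P a k) * (∑ a, p a * pI P a k) ≤ 0 := by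
    calc ∑ k, (∑ a, p a * pI P a k) * (∑ a, p a * pI P a k)
        = ∑ k, (∑ a, p a * pI P a k) * (∑ b, n b * pI P b k) := by simp_rw [hk]
      _ = ∑ k, ∑ a, ∑ b, p a * n b * (pI P a k * pI P b k) := by
          refine Finset.sum_congr rfl fun k _ ↦ ?_
          rw [Finset.sum_mul_sum]
          exact Finset.sum_congr rfl fun a _ ↦ Finset.sum_congr rfl fun b _ ↦ by ring
      _ = ∑ a, ∑ b, p a * n b * formInt P a b := by
          simp only [formInt, Finset.mul_sum]
          rw [Finset.sum_comm]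
          exact Finset.sum_congr rfl fun a _ ↦ Finset.sum_comm
      _ ≤ 0 := by
          refine Finset.sum_nonpos fun a _ ↦ Finset.sum_nonpos fun b _ ↦ ?_
          by_cases h : 0 < c a ∧ c b < 0
          · have := formInt_nonpos (pI_nonpos_of_mem_simpleOf hS (hsupp a h.1.ne') (hsupp b h.2.ne)
              (fun e ↦ by subst e; omega))
            have : (0 : ℤ) ≤ p a * n b := mul_nonneg (le_max_right _ _) (le_max_right _ _)
            nlinarith
          · have : p a = 0 ∨ n b = 0 := by simp only [p, n]; omega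
            rcases this with e | e <;> simp [e]
  have hv0 : v = 0 := by
    refine eq_zero_of_forall_coroot' (P := P)
      (sum_mem fun a _ ↦ zsmul_mem (Submodule.subset_span (mem_range_self a)) _) fun k ↦ ?_
    have := (Finset.sum_eq_zero_iff_of_nonneg fun k _ ↦ mul_self_nonneg _).mp
      (le_antisymm hsq (Finset.sum_nonneg fun k _ ↦ mul_self_nonneg _)) k (Finset.mem_univ k)
    rw [hv, coroot'_zsmul_sum, mul_self_eq_zero.mp this, Int.cast_zero]
  have key : ∀ q : ι → ℤ, (∀ a, 0 ≤ q a) → (∀ a, q a ≠ 0 → a ∈ S) →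
      ∑ a, q a • P.root a = 0 → ∀ a, q a = 0 := by
    intro q hq hqS h a
    have := eq_zero_of_linearCombination_nat_eq_zero (P := P) hcl hd
      (c := Finsupp.equivFunOnFinite.symm fun a ↦ (q a).toNat) ?_ ?_
    · have := DFunLike.congr_fun this a
      simp only [Finsupp.equivFunOnFinite_symm_apply_apply, Finsupp.coe_zero, Pi.zero_apply] at this
      have := hq a
      omega
    · intro a ha
      simp only [Finset.mem_coe, Finsupp.mem_support_iff,
        Finsupp.equivFunOnFinite_symm_apply_apply] at ha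
      exact hqS a (by omega)
    · rw [Finsupp.linearCombination_apply,
        Finsupp.sum_fintype _ _ (fun a ↦ zero_smul ℕ (P.root a)), ← h]
      exact Finset.sum_congr rfl fun a _ ↦ by
        rw [Finsupp.equivFunOnFinite_symm_apply_apply, ← natCast_zsmul, Int.toNat_of_nonneg (hq a)]
  have hp0 := key p (fun a ↦ le_max_right _ _) (fun a ha ↦ (hsupp a (by simp only [p] at ha; omega)).1)
    (hv.symm.trans hv0)
  have hn0 := key n (fun a ↦ le_max_right _ _) (fun a ha ↦ (hsupp a (by simp only [n] at ha; omega)).1)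
    (hv'.symm.trans hv0)
  ext a
  simp [hpn a, hp0 a, hn0 a]

/-- A set of roots that is linearly independent over `ℤ` is linearly independent over `R`. -/
lemma linIndepOn_of_int {Δ : Set ι} (h : LinearIndepOn ℤ P.root Δ) :
    LinearIndepOn R P.root Δ := by
  classical
  have : Fintype ι := Fintype.ofFinite ι
  let G : Matrix Δ Δ ℤ := fun a b ↦ pI P a b
  have hG : G.det ≠ 0 := by
    intro h0
    obtain ⟨v, hv, hvG⟩ := Matrix.exists_vecMul_eq_zero_iff.mpr h0
    have hb : ∀ b : Δ, ∑ a, v a * pI P a b = 0 := fun b ↦ congrFun hvG b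
    have hf : ∀ b : Δ, ∑ a, v a * formInt P a b = 0 := fun b ↦ by
      have : 2 * ∑ a, v a * formInt P a b = 0 := by
        rw [Finset.mul_sum, ← mul_zero (formInt P b b), ← hb b, Finset.mul_sum]
        exact Finset.sum_congr rfl fun a _ ↦ by
          rw [mul_left_comm, two_mul_formInt]; ring
      omega
    have hsq : ∑ k, (∑ a, v a * pI P a k) * (∑ a, v a * pI P a k) = 0 := by
      calc ∑ k, (∑ a, v a * pI P a k) * (∑ a, v a * pI P a k)
          = ∑ k, ∑ b, ∑ a, v b * (v a * (pI P a k * pI P b k)) := by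
            refine Finset.sum_congr rfl fun k _ ↦ ?_
            rw [Finset.sum_mul_sum, Finset.sum_comm]
            exact Finset.sum_congr rfl fun b _ ↦ Finset.sum_congr rfl fun a _ ↦ by ring
        _ = ∑ b, v b * ∑ a, v a * formInt P a b := by
            simp only [formInt, Finset.mul_sum]
            rw [Finset.sum_comm]
            exact Finset.sum_congr rfl fun b _ ↦ Finset.sum_comm
        _ = 0 := Finset.sum_eq_zero fun b _ ↦ by rw [hf b, mul_zero]
    have hx : ∑ a, v a • P.root a = 0 := by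
      refine eq_zero_of_forall_coroot' (P := P)
        (sum_mem fun a _ ↦ zsmul_mem (Submodule.subset_span (mem_range_self _)) _) fun k ↦ ?_
      have := (Finset.sum_eq_zero_iff_of_nonneg fun k _ ↦ mul_self_nonneg _).mp hsq k
        (Finset.mem_univ k)
      rw [coroot'_zsmul_sum, mul_self_eq_zero.mp this, Int.cast_zero]
    exact hv (funext fun a ↦ Fintype.linearIndependent_iff.mp h v hx a)
  refine Fintype.linearIndependent_iff.mpr fun r hr a ↦ ?_
  have hrG : Matrix.vecMul r (G.map (Int.castRingHom R)) = 0 := by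
    ext b
    have := congrArg (P.coroot' b) hr
    rw [map_sum, map_zero] at this
    rw [Pi.zero_apply, ← this]
    exact Finset.sum_congr rfl fun a _ ↦ by
      rw [map_smul, coroot'_root]; rfl
  have hdet : (G.map (Int.castRingHom R)).det ≠ 0 := by
    have e := RingHom.map_det (Int.castRingHom R) G
    rw [RingHom.mapMatrix_apply] at e
    rw [← e]
    simpa using hG
  exact congrFun (Matrix.eq_zero_of_vecMul_eq_zero hdet hrG) a

lemma isSimpleSys_simpleOf {S : Set ι} (hS : IsPosSys P S) : IsSimpleSys P (simpleOf P S) :=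
  ⟨linIndepOn_of_int (linIndepOn_int_simpleOf hS), simpleOf_mem_or_neg_mem hS⟩

lemma posOf_simpleOf {S : Set ι} (hS : IsPosSys P S) : posOf P (simpleOf P S) = S :=
  posOf_eq_of_subset (isSimpleSys_simpleOf hS) hS (simpleOf_subset S)

lemma IsSimpleSys.simpleOf_posOf {Δ : Set ι} (h : IsSimpleSys P Δ) :
    simpleOf P (posOf P Δ) = Δ := by
  classical
  have hli := linIndepOn_int h.linInd
  apply subset_antisymm
  · intro k hk
    by_contra hkΔ
    obtain ⟨s, hs, hsk⟩ := exists_multiset_of_mem_natSpan hk.1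
    obtain ⟨a, ha, hpos⟩ := exists_mem_pairing_pos (P := P) (k := k) one_pos (by rw [hsk, one_zsmul])
    have hne : k ≠ a := fun e ↦ hkΔ (e ▸ hs a ha)
    obtain ⟨m, hm⟩ := root_sub_mem (pI_pos_symm hpos) hne
    obtain ⟨t, rfl⟩ := Multiset.exists_cons_of_mem ha
    rw [Multiset.map_cons, Multiset.sum_cons] at hsk
    have hmS : m ∈ posOf P Δ := by
      have := multiset_sum_mem_natSpan (P := P) (fun i hi ↦ hs i (Multiset.mem_cons_of_mem hi))
      simp only [posOf, mem_setOf_eq]
      convert this using 1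
      rw [hm, ← hsk]; abel
    exact hk.2 m hmS a (subset_posOf Δ (hs a ha)) (by rw [hm]; abel)
  · intro k hk
    refine ⟨subset_posOf Δ hk, fun i hi j hj he ↦ ?_⟩
    obtain ⟨c, hc, hc0, hci⟩ := mem_natSpan_exists_int (hi : P.root i ∈ _)
    obtain ⟨d, hd, hd0, hdj⟩ := mem_natSpan_exists_int (hj : P.root j ∈ _)
    have heq := eq_of_linearCombination_eq hli (c := c + d) (d := Finsupp.single k 1)
      (fun a ha ↦ (Finset.mem_union.mp (Finsupp.support_add ha)).elim
        (fun h ↦ hc h) (fun h ↦ hd h))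
      (fun a ha ↦ Finset.mem_singleton.mp (Finsupp.support_single_subset ha) ▸ hk)
      (by simp [hci, hdj, he])
    have hzero : ∀ a, a ≠ k → c a = 0 ∧ d a = 0 := fun a ha ↦ by
      have h1 := DFunLike.congr_fun heq a
      simp [Ne.symm ha] at h1
      have := hc0 a
      have := hd0 a
      omega
    have hk1 := DFunLike.congr_fun heq k
    simp at hk1
    have := hc0 k
    have := hd0 k
    by_cases hck : c k = 0
    · exact P.ne_zero i (by
        rw [← hci, show c = 0 from Finsupp.ext fun a ↦ by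
          by_cases ha : a = k
          · subst ha; simpa using hck
          · simpa using (hzero a ha).1]
        simp)
    · exact P.ne_zero j (by
        rw [← hdj, show d = 0 from Finsupp.ext fun a ↦ by
          by_cases ha : a = k
          · subst ha; simp; omega
          · simpa using (hzero a ha).2]
        simp)

lemma IsSimpleSys.isIndiv {Δ : Set ι} (h : IsSimpleSys P Δ) {i : ι} (hi : i ∈ Δ) :
    IsIndiv P i := by
  rw [isIndiv_iff]
  intro j hj
  rw [← IsSimpleSys.simpleOf_posOf h] at hi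
  rcases (IsSimpleSys.isPosSys h).cover j with hjS | hjS
  · exact hi.2 j hjS j hjS hj
  · refine (IsSimpleSys.isPosSys h).disjoint hi.1 ?_
    exact (IsPosSys.closed (IsSimpleSys.isPosSys h)) hjS hjS (by rw [root_neg, root_neg, hj, neg_add])

lemma existsUnique_simpleSys {S : Set ι} (hS : IsPosSys P S) :
    ∃! Δ : Set ι, IsSimpleSys P Δ ∧ Δ ⊆ S := by
  refine ⟨simpleOf P S, ⟨isSimpleSys_simpleOf hS, simpleOf_subset S⟩, fun Δ ⟨hΔ, hΔS⟩ ↦ ?_⟩
  rw [← IsSimpleSys.simpleOf_posOf hΔ, posOf_eq_of_subset hΔ hS hΔS]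

lemma subset_iff_eq_simpleOf {Δ S : Set ι} (hΔ : IsSimpleSys P Δ) (hS : IsPosSys P S)
    (h : Δ ⊆ S) : Δ = simpleOf P S := by
  rw [← IsSimpleSys.simpleOf_posOf hΔ, posOf_eq_of_subset hΔ hS h]

end Groth.RootData
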