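import Groth.Agent.RootData.Simple
import Mathlib.LinearAlgebra.RootSystem.WeylGroup

/-!
The Weyl group acting on positive systems.
-/

open Set Module
open scoped Pointwise

namespace Groth.RootData

open RootD

set_option linter.unusedSectionVars false

variable {ι R M N : Type*} [CommRing R] [AddCommGroup M] [Module R M] [AddCommGroup N] [Module R N]
  {P : RootPairing ι R M N}

/-- The reflection automorphism. -/
noncomputable abbrev refl (P : RootPairing ι R M N) (i : ι) : P.Aut := RootPairing.Equiv.reflection P i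

lemma refl_smul (a i : ι) : refl P a • i = P.reflectionPerm a i := rfl

lemma root_smul (g : P.Aut) (i : ι) : P.root (g • i) = g • P.root i :=
  RootPairing.Equiv.root_indexEquiv_eq_smul (P := P) i g

lemma smul_neg_index (g : P.Aut) (i : ι) : g • neg P i = neg P (g • i) :=
  P.root.injective (by rw [root_smul, root_neg, root_neg, root_smul, smul_neg])

lemma refl_smul_self (i : ι) : refl P i • i = neg P i := rfl

lemma refl_mul_self (i : ι) : refl P i * refl P i = 1 :=
  mul_eq_one_iff_inv_eq.mpr (RootPairing.Equiv.reflection_inv P i)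

lemma refl_inv (i : ι) : (refl P i)⁻¹ = refl P i := RootPairing.Equiv.reflection_inv P i

lemma aut_ext {g h : P.Aut} (e : ∀ x : M, g • x = h • x) : g = h :=
  RootPairing.Equiv.weightHom_injective P (LinearEquiv.ext e)

lemma refl_smul_weight (i : ι) (x : M) : refl P i • x = x - P.coroot' i x • P.root i := rfl

lemma toPerfPair_flip_apply (n : N) (m : M) : P.flip.toPerfPair n m = P.toLinearMap m n := rfl

lemma coroot'_smul (g : P.Aut) (i : ι) (x : M) : P.coroot' (g • i) (g • x) = P.coroot' i x := by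
  have h := LinearMap.congr_fun
    (RootPairing.Hom.weight_coweight_transpose_apply P P (P.coroot (g • i)) g.toHom) x
  rw [RootPairing.Hom.coroot_coweightMap_apply] at h
  simp only [LinearMap.dualMap_apply, toPerfPair_flip_apply] at h
  rw [show g.toHom.indexEquiv.symm (g • i) = i from g.toHom.indexEquiv.symm_apply_apply i] at h
  exact h

lemma refl_conj (g : P.Aut) (i : ι) : g * refl P i * g⁻¹ = refl P (g • i) := by
  refine aut_ext fun x ↦ ?_
  obtain ⟨y, rfl⟩ : ∃ y, g • y = x := ⟨g⁻¹ • x, smul_inv_smul g x⟩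
  rw [mul_smul, mul_smul, inv_smul_smul, refl_smul_weight, refl_smul_weight, smul_sub,
    smul_comm g, coroot'_smul, root_smul]

lemma refl_mem_weylGroup (i : ι) : refl P i ∈ P.weylGroup := P.reflection_mem_weylGroup i

lemma closure_refl_le (T : Set ι) : Subgroup.closure (refl P '' T) ≤ P.weylGroup :=
  Subgroup.closure_le _ |>.mpr fun _ ⟨i, _, h⟩ ↦ h ▸ refl_mem_weylGroup i

lemma smul_mem_natSpan (g : P.Aut) {T : Set ι} {x : M} (h : x ∈ natSpan P T) :
    g • x ∈ natSpan P ((g • ·) '' T) := by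
  induction h using AddSubmonoid.closure_induction with
  | mem x hx =>
    obtain ⟨i, hi, rfl⟩ := hx
    exact root_smul g i ▸ root_mem_natSpan (mem_image_of_mem _ hi)
  | zero => rw [smul_zero]; exact zero_mem _
  | add x y _ _ hx hy => rw [smul_add]; exact add_mem hx hy

lemma isIndiv_smul {i : ι} (h : IsIndiv P i) (g : P.Aut) : IsIndiv P (g • i) := by
  rw [isIndiv_iff] at h ⊢
  intro j hj
  refine h (g⁻¹ • j) ?_
  rw [root_smul, ← smul_add, ← hj, root_smul, inv_smul_smul]

variable [CharZero R] [IsDomain R] [P.IsCrystallographic] [Finite ι]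

lemma pI_smul (g : P.Aut) (i j : ι) : pI P (g • i) (g • j) = pI P i j := by
  have h := coroot'_smul g j (P.root i)
  rw [← root_smul, coroot'_root, coroot'_root] at h
  exact_mod_cast h

/-- The possible proportional roots. -/
lemma prop_cases {i j : ι} {a b : ℤ} (ha : a ≠ 0) (h : a • P.root i = b • P.root j) :
    i = j ∨ i = neg P j ∨ P.root i = P.root j + P.root j ∨ P.root i = -(P.root j + P.root j) ∨
      P.root j = P.root i + P.root i ∨ P.root j = -(P.root i + P.root i) := by
  have h1 := congrArg (P.coroot' i) h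
  rw [map_zsmul, map_zsmul, coroot'_root, coroot'_root, pI_same, zsmul_eq_mul, zsmul_eq_mul,
    ← Int.cast_mul, ← Int.cast_mul, Int.cast_inj] at h1
  have h2 := congrArg (P.coroot' j) h
  rw [map_zsmul, map_zsmul, coroot'_root, coroot'_root, pI_same, zsmul_eq_mul, zsmul_eq_mul,
    ← Int.cast_mul, ← Int.cast_mul, Int.cast_inj] at h2
  have hb : b ≠ 0 := by rintro rfl; simp at h1; exact ha h1
  have hpq : pI P i j * pI P j i = 4 := by
    refine mul_left_cancel₀ ha ?_
    calc a * (pI P i j * pI P j i) = (a * pI P i j) * pI P j i := by ring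
      _ = 2 * (b * pI P j i) := by rw [h2]; ring
      _ = a * 4 := by rw [← h1]; ring
  have hi : (2 : ℤ) • P.root i = pI P i j • P.root j := by
    refine zsmul_right_cancel P ha ?_
    rw [smul_smul, mul_comm a 2, ← smul_smul, h, smul_smul, smul_smul, h2, mul_comm]
  have hj : pI P j i • P.root i = (2 : ℤ) • P.root j := by
    refine zsmul_right_cancel P hb ?_
    rw [smul_smul, ← h1, mul_comm a 2, ← smul_smul, h, smul_smul, smul_smul, mul_comm]
  have hd : pI P i j ∣ 4 := ⟨_, hpq.symm⟩
  have hle := Int.le_of_dvd (by norm_num) hd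
  have hge := Int.le_of_dvd (by norm_num) ((Int.neg_dvd).mpr hd)
  generalize pI P i j = p at *
  generalize pI P j i = q at *
  have hp : p = 1 ∨ p = -1 ∨ p = 2 ∨ p = -2 ∨ p = 4 ∨ p = -4 := by
    obtain ⟨c, hc⟩ := hd
    have : p ≠ 0 := by rintro rfl; simp at hc
    have : p ≠ 3 := by rintro rfl; omega
    have : p ≠ -3 := by rintro rfl; omega
    omega
  rcases hp with rfl | rfl | rfl | rfl | rfl | rfl
  · rw [one_zsmul] at hi
    exact .inr <| .inr <| .inr <| .inr <| .inl (by rw [← hi, two_zsmul])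
  · rw [neg_one_zsmul, eq_comm, neg_eq_iff_eq_neg] at hi
    exact .inr <| .inr <| .inr <| .inr <| .inr (by rw [hi, two_zsmul])
  · exact .inl (P.root.injective (zsmul_right_cancel P two_ne_zero hi))
  · rw [neg_smul, ← smul_neg] at hi
    exact .inr <| .inl (P.root.injective
      (by rw [root_neg]; exact zsmul_right_cancel P two_ne_zero hi))
  · have : q = 1 := by omega
    rw [this, one_zsmul] at hj
    exact .inr <| .inr <| .inl (by rw [hj, two_zsmul])
  · have : q = -1 := by omega
    rw [this, neg_one_zsmul, neg_eq_iff_eq_neg] at hj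
    exact .inr <| .inr <| .inr <| .inl (by rw [hj, two_zsmul])

lemma eq_or_neg_of_indiv {i j : ι} {a b : ℤ} (ha : a ≠ 0) (h : a • P.root i = b • P.root j)
    (hi : IsIndiv P i) (hj : IsIndiv P j) : i = j ∨ i = neg P j := by
  rw [isIndiv_iff] at hi hj
  rcases prop_cases ha h with e | e | e | e | e | e
  · exact .inl e
  · exact .inr e
  · exact absurd e (hi j)
  · exact absurd (by rw [root_neg, e, neg_add]) (hi (neg P j))
  · exact absurd e (hj i)
  · exact absurd (by rw [root_neg, e, neg_add]) (hj (neg P i))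

lemma isIndiv_of_double {i j : ι} (h : P.root j = P.root i + P.root i) : IsIndiv P i := by
  rw [isIndiv_iff]
  intro l hl
  have h4 : (1 : ℤ) • P.root j = (4 : ℤ) • P.root l := by rw [one_zsmul, h, hl]; abel
  have hne : ∀ n : ℤ, n ≠ 0 → n • P.root l ≠ 0 := fun n hn e ↦
    P.ne_zero l (zsmul_right_cancel P hn (e.trans (smul_zero n).symm))
  rcases prop_cases one_ne_zero h4 with e | e | e | e | e | e
  · subst e; exact hne 3 (by norm_num) (by linear_combination (norm := module) h4.symm)
  · subst e; rw [root_neg] at h4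
    exact hne 5 (by norm_num) (by linear_combination (norm := module) h4.symm)
  · rw [e] at h4; exact hne 2 (by norm_num) (by linear_combination (norm := module) h4.symm)
  · rw [e] at h4; exact hne 6 (by norm_num) (by linear_combination (norm := module) h4.symm)
  · refine hne 7 (by norm_num) ?_
    rw [one_zsmul] at h4
    rw [h4] at e
    linear_combination (norm := module) e.symm
  · refine hne 9 (by norm_num) ?_
    rw [one_zsmul] at h4
    rw [h4] at e
    linear_combination (norm := module) e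

/-- Every root is indivisible or twice an indivisible root. -/
lemma indiv_or_double (k : ι) :
    IsIndiv P k ∨ ∃ i, IsIndiv P i ∧ P.root k = P.root i + P.root i := by
  by_cases h : IsIndiv P k
  · exact .inl h
  · rw [isIndiv_iff] at h
    push Not at h
    obtain ⟨i, hi⟩ := h
    exact .inr ⟨i, isIndiv_of_double hi, hi⟩

lemma coroot_of_double {i j : ι} (h : P.root j = P.root i + P.root i) :
    P.coroot i = P.coroot j + P.coroot j := by
  have := isAddTorsionFree_coweight P
  have := RootPairing.smul_coroot_eq_of_root_eq_smul (P := P) i j (2 : R) (by rw [two_smul, h])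
  rw [← this, two_smul]

lemma refl_eq_of_double {i j : ι} (h : P.root j = P.root i + P.root i) : refl P j = refl P i := by
  refine aut_ext fun x ↦ ?_
  rw [refl_smul_weight, refl_smul_weight, h]
  simp only [RootPairing.coroot', coroot_of_double h, map_add, LinearMap.add_apply, smul_add,
    add_smul]

lemma refl_neg (i : ι) : refl P (neg P i) = refl P i := by
  refine aut_ext fun x ↦ ?_
  rw [refl_smul_weight, refl_smul_weight]
  simp only [RootPairing.coroot', coroot_neg, root_neg, map_neg, LinearMap.neg_apply, neg_smul,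
    smul_neg, _root_.neg_neg]

/-- A simple reflection permutes the positive roots not proportional to it. -/
lemma refl_mem_posOf {Δ : Set ι} (hΔ : IsSimpleSys P Δ) {i k : ι} (hi : i ∈ Δ)
    (hk : k ∈ posOf P Δ) (h1 : k ≠ i) (h2 : P.root k ≠ P.root i + P.root i) :
    P.reflectionPerm i k ∈ posOf P Δ := by
  classical
  refine ((IsSimpleSys.isPosSys hΔ).cover _).resolve_right fun hm ↦ ?_
  have hli := linIndepOn_int hΔ.linInd
  obtain ⟨c, hc, hc0, hck⟩ := mem_natSpan_exists_int (hk : P.root k ∈ _)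
  obtain ⟨d, hd, hd0, hdm⟩ := mem_natSpan_exists_int (hm : P.root _ ∈ _)
  rw [root_neg, root_reflectionPerm_eq, neg_sub] at hdm
  have heq := eq_of_linearCombination_eq hli (c := c + d) (d := Finsupp.single i (pI P k i))
    (fun a ha ↦ (Finset.mem_union.mp (Finsupp.support_add ha)).elim
      (fun h ↦ hc h) (fun h ↦ hd h))
    (fun a ha ↦ Finset.mem_singleton.mp (Finsupp.support_single_subset ha) ▸ hi)
    (by simp [hck, hdm])
  have hcz : c = Finsupp.single i (c i) := by
    ext a
    rcases eq_or_ne a i with rfl | ha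
    · simp
    · have := DFunLike.congr_fun heq a
      simp [Ne.symm ha] at this ⊢
      have := hc0 a
      have := hd0 a
      omega
  rw [hcz, Finsupp.linearCombination_single] at hck
  have hpos := IsSimpleSys.isPosSys hΔ
  have hiS := subset_posOf (P := P) Δ hi
  rcases prop_cases one_ne_zero (i := k) (j := i) (b := c i) (by rw [one_zsmul, hck] : (1 : ℤ) • P.root k = c i • P.root i) with
    e | e | e | e | e | e
  · exact h1 e
  · rw [e] at hk; exact hpos.disjoint hiS hk
  · exact h2 e
  · refine hpos.disjoint hk ?_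
    simp only [posOf, mem_setOf_eq, root_neg, e, _root_.neg_neg]
    exact add_mem (root_mem_natSpan hi) (root_mem_natSpan hi)
  · exact isIndiv_iff.mp (IsSimpleSys.isIndiv hΔ hi) k e
  · exact isIndiv_iff.mp (IsSimpleSys.isIndiv hΔ hi) (neg P k) (by rw [root_neg, e, neg_add])

lemma refl_mem_pos {S : Set ι} (hS : IsPosSys P S) {i k : ι} (hi : i ∈ simpleOf P S)
    (hk : k ∈ S) (h1 : k ≠ i) (h2 : P.root k ≠ P.root i + P.root i) : P.reflectionPerm i k ∈ S := by
  have := refl_mem_posOf (isSimpleSys_simpleOf hS) hi (by rwa [posOf_simpleOf hS]) h1 h2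
  rwa [posOf_simpleOf hS] at this

lemma IsPosSys.image (g : P.Aut) {S : Set ι} (hS : IsPosSys P S) :
    IsPosSys P ((g • ·) '' S) := by
  obtain ⟨hd, hc, hcl⟩ := isPosSys_iff_closed.mp hS
  refine isPosSys_iff_closed.mpr ⟨?_, fun i ↦ ?_, ?_⟩
  · rintro _ ⟨i, hi, rfl⟩ ⟨j, hj, he⟩
    exact hd i hi (MulAction.injective g (he.trans (smul_neg_index g i).symm) ▸ hj)
  · rcases hc (g⁻¹ • i) with h | h
    · exact .inl ⟨_, h, smul_inv_smul g i⟩
    · exact .inr ⟨_, h, by simp only [smul_neg_index, smul_inv_smul]⟩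
  · rintro _ _ k ⟨i, hi, rfl⟩ ⟨j, hj, rfl⟩ hk
    refine ⟨g⁻¹ • k, hcl hi hj ?_, smul_inv_smul g k⟩
    rw [root_smul, hk, root_smul, root_smul, smul_add, inv_smul_smul, inv_smul_smul]

lemma IsSimpleSys.image (g : P.Aut) {Δ : Set ι} (hΔ : IsSimpleSys P Δ) :
    IsSimpleSys P ((g • ·) '' Δ) := by
  refine ⟨?_, fun i ↦ ?_⟩
  · refine LinearIndepOn.image_of_comp _ _ ?_
    rw [show (⇑P.root ∘ fun x ↦ g • x) = (RootPairing.Equiv.weightHom P g : M →ₗ[R] M) ∘ P.root from
      funext fun i ↦ root_smul g i]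
    exact hΔ.linInd.map' _ (LinearEquiv.ker _)
  · rcases hΔ.mem_or_neg_mem (g⁻¹ • i) with h | h
    · left
      have := smul_mem_natSpan g h
      rwa [← root_smul, smul_inv_smul] at this
    · right
      have := smul_mem_natSpan g h
      rwa [smul_neg, ← root_smul, smul_inv_smul] at this

lemma IsSimpleSys.posOf_image (g : P.Aut) {Δ : Set ι} (hΔ : IsSimpleSys P Δ) :
    posOf P ((g • ·) '' Δ) = (g • ·) '' posOf P Δ :=
  posOf_eq_of_subset (IsSimpleSys.image g hΔ) (IsPosSys.image g (IsSimpleSys.isPosSys hΔ))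
    (image_mono (subset_posOf Δ))

lemma simpleOf_image (g : P.Aut) {S : Set ι} (hS : IsPosSys P S) :
    simpleOf P ((g • ·) '' S) = (g • ·) '' simpleOf P S :=
  (subset_iff_eq_simpleOf (IsSimpleSys.image g (isSimpleSys_simpleOf hS)) (IsPosSys.image g hS)
    (image_mono (simpleOf_subset S))).symm

/-- A positive system can be moved into any closed set containing each root or its opposite. -/
lemma exists_weyl_image_subset {S P' : Set ι} (hS : IsPosSys P S)
    (hP2 : ∀ i, i ∈ P' ∨ neg P i ∈ P') (hcl : IsClosedSub P P') :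
    ∃ g ∈ P.weylGroup, (g • ·) '' S ⊆ P' := by
  induction hn : (S \ P').ncard using Nat.strong_induction_on generalizing S with
  | _ n ih =>
    by_cases hsub : simpleOf P S ⊆ P'
    · refine ⟨1, one_mem _, ?_⟩
      rintro _ ⟨k, hk, rfl⟩
      rw [← posOf_simpleOf hS] at hk
      simp only [one_smul]
      exact posOf_subset hcl hsub hk
    · obtain ⟨i, hi, hiP⟩ := not_subset.mp hsub
      have hni := (hP2 i).resolve_left hiP
      set S' := (refl P i • ·) '' S with hS'
      have hlt : S' \ P' ⊂ S \ P' := by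
        refine ⟨?_, fun h ↦ ?_⟩
        · rintro _ ⟨⟨k, hk, rfl⟩, hkP⟩
          refine ⟨?_, hkP⟩
          by_cases h1 : k = i
          · subst h1; exact absurd hni hkP
          by_cases h2 : P.root k = P.root i + P.root i
          · refine absurd (hcl hni hni ?_) hkP
            rw [root_smul, h2, smul_add, ← root_smul, refl_smul_self]
          exact refl_mem_pos hS hi hk h1 h2
        · obtain ⟨⟨k, hk, hki⟩, -⟩ := h ⟨simpleOf_subset S hi, hiP⟩
          have : k = neg P i := MulAction.injective (refl P i)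
            (hki.trans (by simp only [smul_neg_index, refl_smul_self, neg_neg]))
          rw [this] at hk; exact hS.disjoint (simpleOf_subset S hi) hk
      obtain ⟨g, hg, hgs⟩ := ih (S' \ P').ncard (hn ▸ ncard_lt_ncard hlt (toFinite _))
        (IsPosSys.image _ hS) rfl
      refine ⟨g * refl P i, mul_mem hg (refl_mem_weylGroup i), ?_⟩
      rwa [image_image, show (fun x ↦ g • refl P i • x) = fun x ↦ (g * refl P i) • x from
        funext fun x ↦ (mul_smul g _ x).symm] at hgs

lemma exists_weyl_image_eq {S S' : Set ι} (hS : IsPosSys P S) (hS' : IsPosSys P S') :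
    ∃ g ∈ P.weylGroup, (g • ·) '' S = S' := by
  obtain ⟨g, hg, h⟩ := exists_weyl_image_subset hS hS'.cover (IsPosSys.closed hS')
  exact ⟨g, hg, IsPosSys.eq_of_subset (IsPosSys.image g hS) hS' h⟩

lemma exists_weyl_simple_image_eq {Δ Δ' : Set ι} (hΔ : IsSimpleSys P Δ) (hΔ' : IsSimpleSys P Δ') :
    ∃ g ∈ P.weylGroup, (g • ·) '' Δ = Δ' := by
  obtain ⟨g, hg, h⟩ := exists_weyl_image_eq (IsSimpleSys.isPosSys hΔ) (IsSimpleSys.isPosSys hΔ')
  refine ⟨g, hg, ?_⟩
  rw [← IsSimpleSys.simpleOf_posOf hΔ', ← h, simpleOf_image g (IsSimpleSys.isPosSys hΔ),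
    IsSimpleSys.simpleOf_posOf hΔ]

/-- An indivisible positive root that is not simple is lowered by some simple reflection. -/
lemma exists_lowering {Δ : Set ι} (hΔ : IsSimpleSys P Δ) {k : ι} (hk : k ∈ posOf P Δ)
    (hkΔ : k ∉ Δ) (hind : IsIndiv P k) :
    ∃ i ∈ Δ, 0 < pI P k i ∧ P.reflectionPerm i k ∈ posOf P Δ ∧
      Below P (posOf P Δ) (P.reflectionPerm i k) k := by
  obtain ⟨s, hs, hsk⟩ := exists_multiset_of_mem_natSpan hk
  obtain ⟨i, hi, hpos⟩ := exists_mem_pairing_pos (P := P) (k := k) one_pos (by rw [hsk, one_zsmul])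
  have hiΔ := hs i hi
  have hne : k ≠ i := fun e ↦ hkΔ (e ▸ hiΔ)
  refine ⟨i, hiΔ, pI_pos_symm hpos,
    refl_mem_posOf hΔ hiΔ hk hne (isIndiv_iff.mp hind i),
    Multiset.replicate (pI P k i).toNat i, ?_, fun a ha ↦ ?_, ?_⟩
  · intro e
    have := congrArg Multiset.card e
    have := pI_pos_symm hpos
    simp at *
    omega
  · exact Multiset.eq_of_mem_replicate ha ▸ subset_posOf Δ hiΔ
  · rw [Multiset.map_replicate, Multiset.sum_replicate, ← natCast_zsmul,
      Int.toNat_of_nonneg (pI_pos_symm hpos).le, root_reflectionPerm_eq, sub_add_cancel]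

lemma exists_weyl_smul_simple_pos {Δ : Set ι} (hΔ : IsSimpleSys P Δ) {k : ι}
    (hk : k ∈ posOf P Δ) (hind : IsIndiv P k) :
    ∃ g ∈ Subgroup.closure (refl P '' Δ), ∃ i ∈ Δ, g • i = k := by
  induction k using (wellFounded_below (IsSimpleSys.isPosSys hΔ)).induction with
  | _ k ih =>
    by_cases hkΔ : k ∈ Δ
    · exact ⟨1, one_mem _, k, hkΔ, one_smul _ k⟩
    obtain ⟨a, ha, -, hm, hb⟩ := exists_lowering hΔ hk hkΔ hind
    obtain ⟨g, hg, i, hi, hgi⟩ := ih _ hb hm (isIndiv_smul hind (refl P a))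
    refine ⟨refl P a * g, mul_mem (Subgroup.subset_closure (mem_image_of_mem _ ha)) hg, i, hi, ?_⟩
    rw [mul_smul, hgi, refl_smul, RootPairing.reflectionPerm_self]

lemma exists_weyl_smul_simple {Δ : Set ι} (hΔ : IsSimpleSys P Δ) {k : ι} (hind : IsIndiv P k) :
    ∃ g ∈ Subgroup.closure (refl P '' Δ), ∃ i ∈ Δ, g • i = k := by
  rcases (IsSimpleSys.isPosSys hΔ).cover k with hk | hk
  · exact exists_weyl_smul_simple_pos hΔ hk hind
  · obtain ⟨g, hg, i, hi, hgi⟩ := exists_weyl_smul_simple_pos hΔ hk (isIndiv_neg_iff.mpr hind)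
    refine ⟨g * refl P i, mul_mem hg (Subgroup.subset_closure (mem_image_of_mem _ hi)), i, hi, ?_⟩
    rw [mul_smul, refl_smul_self, smul_neg_index, hgi, neg_neg]

lemma closure_refl_simple {Δ : Set ι} (hΔ : IsSimpleSys P Δ) :
    Subgroup.closure (refl P '' Δ) = P.weylGroup := by
  refine le_antisymm (closure_refl_le Δ) (Subgroup.closure_le _ |>.mpr ?_)
  rintro _ ⟨k, rfl⟩
  have key : ∀ k, IsIndiv P k → refl P k ∈ Subgroup.closure (refl P '' Δ) := fun k hk ↦ by
    obtain ⟨g, hg, i, hi, rfl⟩ := exists_weyl_smul_simple hΔ hk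
    rw [← refl_conj]
    exact mul_mem (mul_mem hg (Subgroup.subset_closure (mem_image_of_mem _ hi))) (inv_mem hg)
  rcases indiv_or_double (P := P) k with h | ⟨i, hi, h⟩
  · exact key k h
  · change refl P k ∈ _
    rw [refl_eq_of_double h]; exact key i hi

/-- The product of the reflections along a word. -/
noncomputable def word (P : RootPairing ι R M N) (l : List ι) : P.Aut := (l.map (refl P)).prod

lemma word_mem {T : Set ι} {l : List ι} (hl : ∀ a ∈ l, a ∈ T) :
    word P l ∈ Subgroup.closure (refl P '' T) :=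
  Subgroup.list_prod_mem _ fun _ h ↦ by
    obtain ⟨a, ha, rfl⟩ := List.mem_map.mp h
    exact Subgroup.subset_closure (mem_image_of_mem _ (hl a ha))

lemma exists_word {T : Set ι} {g : P.Aut} (hg : g ∈ Subgroup.closure (refl P '' T)) :
    ∃ l : List ι, (∀ a ∈ l, a ∈ T) ∧ g = word P l := by
  induction hg using Subgroup.closure_induction'' with
  | one => exact ⟨[], by simp, by simp [word]⟩
  | mem x hx => obtain ⟨a, ha, rfl⟩ := hx; exact ⟨[a], by simp [ha], by simp [word]⟩
  | inv_mem x hx =>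
    obtain ⟨a, ha, rfl⟩ := hx; exact ⟨[a], by simp [ha], by rw [refl_inv]; simp [word]⟩
  | mul x y _ _ hx hy =>
    obtain ⟨l, hl, rfl⟩ := hx
    obtain ⟨l', hl', rfl⟩ := hy
    exact ⟨l ++ l', fun a ha ↦ (List.mem_append.mp ha).elim (hl a) (hl' a), by simp [word]⟩

/-- Deletion: if a word in simple reflections makes a simple root negative, it can be shortened. -/
lemma deletion {Δ : Set ι} (hΔ : IsSimpleSys P Δ) {i : ι} (hi : i ∈ Δ) {l : List ι}
    (hl : ∀ a ∈ l, a ∈ Δ) (h : word P l • i ∉ posOf P Δ) :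
    ∃ l' : List ι, l'.Sublist l ∧ l'.length + 1 = l.length ∧ word P l * refl P i = word P l' := by
  induction l with
  | nil => exact absurd (subset_posOf Δ hi) (by simpa [word] using h)
  | cons a t ih =>
    have hw : word P (a :: t) = refl P a * word P t := by simp [word]
    by_cases ht : word P t • i ∈ posOf P Δ
    · refine ⟨t, List.sublist_cons_self a t, by simp, ?_⟩
      have hind := isIndiv_smul (IsSimpleSys.isIndiv hΔ hi) (word P t)
      have ham : word P t • i = a := by
        by_contra hne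
        refine h ?_
        rw [hw, mul_smul, refl_smul]
        exact refl_mem_posOf hΔ (hl a List.mem_cons_self) ht hne (isIndiv_iff.mp hind a)
      rw [hw, ← ham, ← refl_conj]
      simp only [mul_assoc, inv_mul_cancel_left, refl_mul_self, mul_one]
    · obtain ⟨l', h1, h2, h3⟩ := ih (fun b hb ↦ hl b (List.mem_cons_of_mem a hb)) ht
      refine ⟨a :: l', h1.cons_cons a, by simp [h2], ?_⟩
      rw [hw, mul_assoc, h3]; simp [word]

/-- In a shortest word, the last simple root becomes negative. -/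
lemma last_neg {Δ : Set ι} (hΔ : IsSimpleSys P Δ) {t : List ι} {i : ι}
    (hl : ∀ a ∈ t, a ∈ Δ) (hi : i ∈ Δ)
    (hmin : ∀ l : List ι, (∀ a ∈ l, a ∈ Δ) → word P l = word P (t ++ [i]) → (t ++ [i]).length ≤ l.length) :
    word P (t ++ [i]) • i ∉ posOf P Δ := by
  intro hpos
  have hw : word P (t ++ [i]) = word P t * refl P i := by simp [word]
  have : word P t • i ∉ posOf P Δ := fun h ↦ by
    rw [hw, mul_smul, refl_smul_self, smul_neg_index] at hpos
    exact (IsSimpleSys.isPosSys hΔ).disjoint h hpos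
  obtain ⟨l', h1, h2, h3⟩ := deletion hΔ hi hl this
  have := hmin l' (fun a ha ↦ hl a (h1.subset ha)) (h3.symm.trans hw.symm)
  simp at this
  omega

/-- Induction on the Weyl group along reduced words. -/
lemma weyl_induction {Δ : Set ι} (hΔ : IsSimpleSys P Δ) {p : P.Aut → Prop} (one : p 1)
    (step : ∀ g ∈ P.weylGroup, ∀ i ∈ Δ, g • i ∈ posOf P Δ → p g → p (g * refl P i))
    {g : P.Aut} (hg : g ∈ P.weylGroup) : p g := by
  obtain ⟨l₀, hl₀, he⟩ := exists_word ((closure_refl_simple hΔ).symm ▸ hg)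
  clear hg
  induction hn : l₀.length using Nat.strong_induction_on generalizing g l₀ with
  | _ n ih =>
    by_cases hshort : ∃ l : List ι, (∀ a ∈ l, a ∈ Δ) ∧ word P l = g ∧ l.length < n
    · obtain ⟨l, hl, hlg, hlt⟩ := hshort
      exact ih _ hlt l hl hlg.symm rfl
    push Not at hshort
    rcases List.eq_nil_or_concat' l₀ with rfl | ⟨t, i, rfl⟩
    · simpa [he, word] using one
    have hi : i ∈ Δ := hl₀ i (by simp)
    have ht : ∀ a ∈ t, a ∈ Δ := fun a ha ↦ hl₀ a (by simp [ha])
    have hlast := last_neg hΔ ht hi fun l hl h ↦ hn ▸ hshort l hl (h.trans he.symm)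
    have hw : word P (t ++ [i]) = word P t * refl P i := by simp [word]
    rw [he, hw]
    refine step _ (closure_refl_le Δ (word_mem ht)) i hi ?_
      (ih t.length (by simp [← hn]) t ht rfl rfl)
    refine ((IsSimpleSys.isPosSys hΔ).cover _).resolve_right fun h ↦ hlast ?_
    rw [hw, mul_smul, refl_smul_self, smul_neg_index]
    exact h

lemma eq_one_of_mapsTo_pos {Δ : Set ι} (hΔ : IsSimpleSys P Δ) {g : P.Aut} (hg : g ∈ P.weylGroup)
    (h : ∀ i ∈ Δ, g • i ∈ posOf P Δ) : g = 1 := by
  revert h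
  refine weyl_induction hΔ (p := fun g ↦ (∀ i ∈ Δ, g • i ∈ posOf P Δ) → g = 1) (fun _ ↦ rfl)
    (fun g _ i hi hgi _ h ↦ ?_) hg
  refine absurd (h i hi) fun h' ↦ (IsSimpleSys.isPosSys hΔ).disjoint hgi ?_
  rw [mul_smul, refl_smul_self, smul_neg_index] at h'
  exact h'

lemma existsUnique_weyl_simple {Δ Δ' : Set ι} (hΔ : IsSimpleSys P Δ) (hΔ' : IsSimpleSys P Δ') :
    ∃! g : P.weylGroup, (fun i ↦ (g : P.Aut) • i) '' Δ = Δ' := by
  obtain ⟨g, hg, h⟩ := exists_weyl_simple_image_eq hΔ hΔ'
  refine ⟨⟨g, hg⟩, h, fun g' h' ↦ Subtype.ext ?_⟩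
  refine (inv_mul_eq_one.mp (eq_one_of_mapsTo_pos hΔ (mul_mem (inv_mem hg) g'.2) ?_)).symm
  intro i hi
  obtain ⟨j, hj, hji⟩ := h.symm ▸ h' ▸ mem_image_of_mem (fun x ↦ (g' : P.Aut) • x) hi
  rw [mul_smul, ← hji, inv_smul_smul]
  exact subset_posOf Δ hj

/-- There is a system of positive roots (lexicographic order of the Cartan integers). -/
lemma exists_isPosSys (P : RootPairing ι R M N) [P.IsCrystallographic] :
    ∃ S : Set ι, IsPosSys P S := by
  classical
  obtain ⟨n, ⟨e⟩⟩ := Finite.exists_equiv_fin ι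
  let v : ι → Fin n → ℤ := fun a k ↦ pI P a (e.symm k)
  have hv : ∀ a, ∃ k, v a k ≠ 0 := fun a ↦ ⟨e a, by simp [v, pI_same]⟩
  have first : ∀ a, ∃ k, v a k ≠ 0 ∧ ∀ l < k, v a l = 0 := fun a ↦
    ⟨(Finset.univ.filter fun k ↦ v a k ≠ 0).min' (by simpa [Finset.filter_nonempty_iff] using hv a),
      (Finset.mem_filter.mp (Finset.min'_mem (Finset.univ.filter fun k ↦ v a k ≠ 0) _)).2, fun l hl ↦ by
        by_contra h
        exact absurd (Finset.min'_le _ l (by simp [h])) (not_le.mpr hl)⟩
  refine ⟨{a | ∃ k, 0 < v a k ∧ ∀ l < k, v a l = 0}, isPosSys_iff_closed.mpr ⟨?_, fun a ↦ ?_, ?_⟩⟩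
  · rintro a ⟨k, hk, hk'⟩ ⟨l, hl, hl'⟩
    simp only [v, pI_neg_left] at hl hl'
    rcases lt_trichotomy k l with h | rfl | h
    · have := hl' k h; simp only [v] at hk; omega
    · simp only [v] at hk; omega
    · have := hk' l h; simp only [v] at this; omega
  · obtain ⟨k, hk, hk'⟩ := first a
    rcases lt_or_gt_of_ne hk with h | h
    · exact .inr ⟨k, by simpa [v, pI_neg_left] using h, fun l hl ↦ by
        simpa [v, pI_neg_left] using hk' l hl⟩
    · exact .inl ⟨k, h, hk'⟩
  · rintro a b c ⟨k, hk, hk'⟩ ⟨l, hl, hl'⟩ hc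
    have hadd : ∀ m, v c m = v a m + v b m := fun m ↦ pI_add _ hc
    refine ⟨min k l, ?_, fun m hm ↦ ?_⟩
    · rcases lt_trichotomy k l with h | rfl | h
      · rw [min_eq_left h.le, hadd, hl' k h]; omega
      · rw [min_self, hadd]; omega
      · rw [min_eq_right h.le, hadd, hk' l h]; omega
    · rw [hadd, hk' m (hm.trans_le (min_le_left _ _)), hl' m (hm.trans_le (min_le_right _ _)),
        add_zero]

lemma eq_one_of_fix_roots {g : P.Aut} (hg : g ∈ P.weylGroup) (h : ∀ i : ι, g • i = i) : g = 1 := by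
  obtain ⟨S, hS⟩ := exists_isPosSys P
  exact eq_one_of_mapsTo_pos (isSimpleSys_simpleOf hS) hg fun i hi ↦
    (h i).symm ▸ subset_posOf _ hi

end Groth.RootData
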